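import Cfsg.Agent.El2.Cov

set_option autoImplicit false

namespace Cfsg.Agent.El2

open MulAction

variable {G Ω : Type*} [Group G] [Finite G] [MulAction G Ω] [Finite Ω] {p q : ℕ} [Fact p.Prime]
  {P : Sylow p G} {P0 : Subgroup G} {Γ : Set Ω}

omit [Finite Ω] in
/-- a subgroup conjugate into `R` has orbits no longer than those of `R` -/
theorem A0_orb {Q R : Subgroup G} (g : G) (hg : ∀ a ∈ Q, g⁻¹ * a * g ∈ R) (γ : Ω) {n : ℕ}
    (ho : Nat.card (orbit R (g⁻¹ • γ)) ≤ n) :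
    Nat.card Q ≤ n * Nat.card ↥(Q ⊓ stabilizer G γ) := by
  have h1 : Nat.card (orbit Q γ) ≤ n := by
    refine le_trans ?_ ho
    have : Finite (orbit R (g⁻¹ • γ)) := Set.finite_range _
    refine Nat.card_le_card_of_injective
      (fun x : orbit Q γ => (⟨g⁻¹ • x.1, ?_⟩ : orbit R (g⁻¹ • γ))) ?_
    · obtain ⟨a, e⟩ := x.2
      refine ⟨⟨_, hg a a.2⟩, ?_⟩
      have e' : (a : G) • γ = x.1 := e
      show (g⁻¹ * a * g) • g⁻¹ • γ = g⁻¹ • x.1
      rw [mul_smul, mul_smul, smul_inv_smul, e']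
    · intro x y e
      exact Subtype.ext (smul_left_cancel g⁻¹ (congrArg Subtype.val e))
  have h2 : (stabilizer Q γ).index = Nat.card (orbit Q γ) := by
    rw [index_stabilizer, Nat.card_coe_set_eq]
  have h3 : stabilizer Q γ = (Q ⊓ stabilizer G γ).subgroupOf Q := by
    ext x
    simp only [Subgroup.mem_subgroupOf, Subgroup.mem_inf, mem_stabilizer_iff, x.2, true_and]
    rfl
  have h4 : Nat.card (stabilizer Q γ) = Nat.card ↥(Q ⊓ stabilizer G γ) := by
    rw [h3]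
    exact Nat.card_congr (Subgroup.subgroupOfEquivOfLe inf_le_left).toEquiv
  rw [← (stabilizer Q γ).card_mul_index, h2, h4, mul_comm]
  exact Nat.mul_le_mul_right _ h1

omit [Finite Ω] in
theorem A0_beta (h : One p q P P0 Γ) (β : Ω) (hβ : ∀ y ∈ P0, y • β = β) : β ∉ Γ := fun m => by
  have h1 := h.orbB β m
  have h2 : orbit P0 β = {β} := by
    ext x
    constructor
    · rintro ⟨a, rfl⟩
      exact hβ a a.2
    · rintro rfl
      exact mem_orbit_self _
  rw [h2, Nat.card_unique] at h1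
  exact h.hp.one_lt.ne h1

omit [Finite Ω] in
theorem A0_card (h : One p q P P0 Γ) (ω : Ω) (m : ω ∉ Γ) :
    Nat.card ↥((P : Subgroup G) ⊓ stabilizer G ω) = Nat.card P0 :=
  Nat.eq_of_mul_eq_mul_left h.hp.pos ((h.cardQ ω m).symm.trans h.idx)

omit [Finite Ω] in
theorem A0_eq (h : One p q P P0 Γ) (ω : Ω) (m : ω ∉ Γ) (hω : ∀ y ∈ P0, y • ω = ω) :
    P0 = (P : Subgroup G) ⊓ stabilizer G ω :=
  Subgroup.eq_of_le_of_card_ge (fun y hy => ⟨h.le hy, hω y hy⟩) (A0_card h ω m).le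

omit [Finite Ω] in
/-- if some point outside `Γ` is moved by `P0`, then `P` has exponent `p` -/
theorem A0_pow (h : One p q P P0 Γ) (β : Ω) (hβ : ∀ y ∈ P0, y • β = β) (ω : Ω) (m : ω ∉ Γ)
    (hn : ¬ P0 ≤ (P : Subgroup G) ⊓ stabilizer G ω) : ∀ y ∈ (P : Subgroup G), y ^ p = 1 := by
  have hb := A0_beta h β hβ
  have eb := A0_eq h β hb hβ
  have hP : IsPGroup p (P : Subgroup G) := P.isPGroup'
  obtain ⟨g, -, hg⟩ := h.st ω ((P : Subgroup G) ⊓ stabilizer G ω) (hP.to_le inf_le_left)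
    inf_le_right β hb
  rw [← eb] at hg
  have key : ∀ γ ∈ Γ, ∀ y ∈ P0, y • ω = ω → y • γ = γ := fun γ mγ => by
    have h1 := A0_orb g hg γ (h.orbLe _)
    rw [A0_card h ω m, h.cardW γ mγ] at h1
    have h2 := Nat.le_of_mul_le_mul_left h1 h.hp.pos
    have h3 : (P : Subgroup G) ⊓ stabilizer G ω ⊓ stabilizer G γ = (P : Subgroup G) ⊓ stabilizer G γ :=
      Subgroup.eq_of_le_of_card_ge (inf_le_inf_right _ inf_le_left) h2
    have h4 : (P : Subgroup G) ⊓ stabilizer G γ ≤ ((P : Subgroup G) ⊓ stabilizer G ω) ⊓ P0 :=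
      le_inf (h3 ▸ inf_le_left) fun y hy => h.stabΓ γ mγ y hy.1 hy.2
    have h5 := cov_le h.hp (hP.to_le h.le) _ hn
    rw [h.cardW γ mγ, ← Subgroup.inf_subgroupOf_right,
      Nat.card_congr (Subgroup.subgroupOfEquivOfLe inf_le_right).toEquiv] at h5
    have h6 := Subgroup.eq_of_le_of_card_ge h4 (Nat.le_of_mul_le_mul_left h5 h.hp.pos)
    intro y hy e
    have h7 : y ∈ (P : Subgroup G) ⊓ stabilizer G γ := by
      rw [h6]
      exact ⟨⟨h.le hy, e⟩, hy⟩
    exact h7.2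
  intro y hy
  refine h.faith _ fun x => ?_
  by_cases mx : x ∈ Γ
  · refine key x mx _ ?_ (h.powQ ω m y hy)
    rw [eb]
    exact ⟨Subgroup.pow_mem _ hy p, h.powQ β hb y hy⟩
  · exact h.powQ x mx y hy

omit [Finite Ω] in
theorem A0_le (h : One p q P P0 Γ) (β : Ω) (hβ : ∀ y ∈ P0, y • β = β) (ω : Ω) (m : ω ∉ Γ) :
    P0 ≤ (P : Subgroup G) ⊓ stabilizer G ω := by
  classical
  by_contra hn
  have hpow := A0_pow h β hβ ω m hn
  have hb := A0_beta h β hβ
  obtain ⟨T, hT, hTΓ, hT2⟩ := h.reps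
  have hq := h.qp
  obtain ⟨y, hy, hy2⟩ := cover h.hp P.isPGroup'
    (T.image fun τ => (P : Subgroup G) ⊓ stabilizer G τ)
    (Finset.card_image_le.trans (hT.trans (by omega))) (fun A mA hle => by
      obtain ⟨τ, mτ, rfl⟩ := Finset.mem_image.1 mA
      have h1 := h.cardQ τ (hTΓ τ mτ)
      have h2 := Subgroup.card_le_of_le hle
      have h3 : 0 < Nat.card ↥((P : Subgroup G) ⊓ stabilizer G τ) := Nat.card_pos
      have h4 := h.hp.two_le
      have h5 : Nat.card P = Nat.card (P : Subgroup G) := rfl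
      nlinarith)
  have hF : ∀ x ∉ Γ, y • x ≠ x := fun x mx e => by
    obtain ⟨τ, mτ, z, hz, rfl⟩ := hT2 x mx
    have h1 := h.nrmQ _ mx y hy z⁻¹ (Subgroup.inv_mem _ hz) e
    rw [inv_smul_smul] at h1
    exact hy2 _ (Finset.mem_image_of_mem _ mτ) ⟨hy, h1⟩
  have hA : ∀ x : Ω, y • x ≠ x := fun x e => by
    by_cases mx : x ∈ Γ
    · exact hF β hb (hβ y (h.stabΓ x mx y hy e))
    · exact hF x mx e
  have h1 : y ≠ 1 := fun e => hA β (by rw [e, one_smul])
  obtain ⟨x, e⟩ := h.elus y (by rw [orderOf_eq_prime (hpow y hy) h1]; exact h.hp)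
  exact hA x e

theorem One.a0 (h : One p q P P0 Γ) (β : Ω) (hβ : ∀ y ∈ P0, y • β = β) : Two p q P P0 Γ where
  toOne := h
  fixF ω m y hy := (A0_le h β hβ ω m hy).2
  stabF ω m y hy e := by
    rw [A0_eq h ω m fun z hz => (A0_le h β hβ ω m hz).2]
    exact ⟨hy, e⟩

theorem Two.dich (h : Two p q P P0 Γ) : Reg (P : Subgroup G) Γ ∨ Dist P0 Γ := by
  by_cases hd : Dist P0 Γ
  · exact Or.inr hd
  left
  unfold Dist at hd
  push Not at hd
  obtain ⟨γ, mγ, γ', mγ', h1, h2⟩ := hd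
  obtain ⟨x, hx, rfl⟩ := h.tr γ mγ γ' mγ'
  have hx0 : x ∉ P0 := fun o => h2 x o rfl
  have h3 : ∀ i : ℕ, ∀ y ∈ (P : Subgroup G), y • γ = γ → y • x ^ i • γ = x ^ i • γ := by
    intro i
    induction i with
    | zero => intro y _ e; simpa using e
    | succ i ih =>
      intro y hy e
      have e1 := h1 y (h.stabΓ γ mγ y hy e) e
      have e2 := ih (x⁻¹ * y * x) (Subgroup.mul_mem _ (Subgroup.mul_mem _ (Subgroup.inv_mem _ hx) hy) hx)
        (by rw [mul_smul, mul_smul, e1, inv_smul_smul])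
      rw [mul_smul, mul_smul, inv_smul_eq_iff] at e2
      rw [pow_succ', mul_smul]
      exact e2
  have h4 : ∀ y ∈ (P : Subgroup G), y • γ = γ → y = 1 := fun y hy e => by
    refine h.faith _ fun ω => ?_
    by_cases m : ω ∈ Γ
    · obtain ⟨z, hz, rfl⟩ := h.tr γ mγ ω m
      obtain ⟨i, w, hw, rfl⟩ := h.gen x hx hx0 z hz
      have hi := Subgroup.pow_mem _ hx i
      have e1 : ((x ^ i)⁻¹ * y * x ^ i) • γ = γ := by
        rw [mul_smul, mul_smul, h3 i y hy e, inv_smul_smul]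
      have e2 := h.stabΓ γ mγ _ (Subgroup.mul_mem _ (Subgroup.mul_mem _ (Subgroup.inv_mem _ hi) hy) hi) e1
      have e3 : ((x ^ i)⁻¹ * y * x ^ i) • w • γ = w • γ := by
        rw [← mul_smul, h.comm _ e2 w hw, mul_smul, e1]
      rw [mul_smul, mul_smul, inv_smul_eq_iff] at e3
      rw [mul_smul]
      exact e3
    · exact h.fixF ω m y (h.stabΓ γ mγ y hy e)
  intro δ mδ y hy e
  obtain ⟨z, hz, rfl⟩ := h.tr γ mγ δ mδ
  have e1 := h4 (z⁻¹ * y * z) (Subgroup.mul_mem _ (Subgroup.mul_mem _ (Subgroup.inv_mem _ hz) hy) hz)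
    (by rw [mul_smul, mul_smul, e, inv_smul_smul])
  have e2 : y = z * (z⁻¹ * y * z) * z⁻¹ := by group
  rw [e2, e1]
  group

end Cfsg.Agent.El2
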