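import Cfsg.Agent.El2.Defs

set_option autoImplicit false
set_option linter.unusedSectionVars false

namespace Cfsg.Agent.El2

open MulAction
open scoped Pointwise

variable {G Ω : Type*} [Group G] [Finite G] [MulAction G Ω] [Finite Ω] {p q : ℕ} [Fact p.Prime]
  {P : Sylow p G} {P0 : Subgroup G} {Γ : Set Ω}

theorem A1a_relIndex_dvd (H X : Subgroup G) [X.Normal] : H.relIndex X ∣ H.index := by
  have h1 : H.relIndex X * X.index = (H ⊓ X).index := by
    rw [← Subgroup.inf_relIndex_right]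
    exact Subgroup.relIndex_mul_index inf_le_right
  have h2 : X.relIndex H * H.index = (H ⊓ X).index := by
    rw [← Subgroup.inf_relIndex_left]
    exact Subgroup.relIndex_mul_index inf_le_left
  obtain ⟨m, hm⟩ := Subgroup.relIndex_dvd_index_of_normal X H
  have h0 : X.relIndex H ≠ 0 := by
    intro h
    rw [h, zero_mul] at hm
    exact Subgroup.index_ne_zero_of_finite hm
  refine ⟨m, Nat.eq_of_mul_eq_mul_left (Nat.pos_of_ne_zero h0) ?_⟩
  rw [h2, ← h1, hm]
  ring

theorem A1a_card_eq (X : Subgroup G) [X.Normal] (g : G) (ω : Ω) :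
    (orbit X (g • ω)).ncard = (orbit X ω).ncard := by
  rw [← smul_orbit_eq_orbit_smul, Set.ncard_smul_set]

theorem Two.a1a (h : Two p q P P0 Γ) (X : Subgroup G) [X.Normal] (hX : P0 ≤ X)
    (hn : ¬ ∀ ω ω' : Ω, ∃ x ∈ X, x • ω = ω') : ∀ ω : Ω, Nat.card (orbit X ω) = 2 * q := by
  intro ω
  haveI := h.trans
  have hp := h.hp
  have hqp := h.qp
  have hq3 := h.q3
  have hp2q := h.p2q
  have heq : ∀ ω' : Ω, (orbit X ω').ncard = (orbit X ω).ncard := by
    intro ω'
    obtain ⟨g, rfl⟩ := exists_smul_eq G ω ω'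
    exact A1a_card_eq X g ω
  change (orbit X ω).ncard = 2 * q
  set t := (orbit X ω).ncard with ht
  have hdvd : t ∣ 2 * p * q := by
    rw [← h.card]
    exact (IsBlock.orbit_of_normal (G := G) (N := X) ω).ncard_dvd_card ⟨ω, mem_orbit_self ω⟩
  have hne : t ≠ 2 * p * q := by
    intro he
    apply hn
    have hu : orbit X ω = Set.univ := by
      apply Set.eq_of_subset_of_ncard_le (Set.subset_univ _)
      rw [Set.ncard_univ, h.card, ← he]
    intro a b
    obtain ⟨x, hx⟩ : a ∈ orbit X ω := hu ▸ Set.mem_univ a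
    obtain ⟨y, hy⟩ : b ∈ orbit X ω := hu ▸ Set.mem_univ b
    refine ⟨(y : G) * (x : G)⁻¹, X.mul_mem y.2 (X.inv_mem x.2), ?_⟩
    have hx' : (x : G) • ω = a := hx
    have hy' : (y : G) • ω = b := hy
    rw [← hx', ← hy', mul_smul, inv_smul_smul]
  have hle : t ≤ p * q := by
    obtain ⟨k, hk⟩ := hdvd
    have hk0 : k ≠ 0 := by
      rintro rfl
      have : 0 < 2 * p * q := by have := hp.pos; positivity
      omega
    have hk1 : k ≠ 1 := by
      rintro rfl
      exact hne (by omega)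
    have h2 : t * 2 ≤ t * k := Nat.mul_le_mul_left t (by omega)
    have h3 : 2 * p * q = p * q * 2 := by ring
    omega
  obtain ⟨γ, hγ⟩ := h.ne
  have hge : p ≤ t := by
    rw [← heq γ, ← h.orbB γ hγ]
    change (orbit P0 γ).ncard ≤ _
    refine Set.ncard_le_ncard ?_ (Set.toFinite _)
    rintro _ ⟨y, rfl⟩
    exact ⟨⟨y, hX y.2⟩, rfl⟩
  have hnP : ¬ (P : Subgroup G) ≤ X := by
    intro hP
    have h1 : Γ.ncard ≤ (orbit X γ).ncard := by
      refine Set.ncard_le_ncard ?_ (Set.toFinite _)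
      intro γ' hγ'
      obtain ⟨y, hy, hyγ⟩ := h.tr γ hγ γ' hγ'
      exact ⟨⟨y, hP hy⟩, hyγ⟩
    rw [heq γ, h.cardΓ] at h1
    have h2 : p * q < p ^ 2 := by
      rw [sq]; exact Nat.mul_lt_mul_of_pos_left hqp hp.pos
    omega
  have hinf : (P : Subgroup G) ⊓ X ≤ P0 := by
    intro y hy
    by_contra hy0
    apply hnP
    intro z hz
    obtain ⟨i, w, hw, rfl⟩ := h.gen y hy.1 hy0 z hz
    exact X.mul_mem (X.pow_mem hy.2 i) (hX hw)
  have hF : Γᶜ.Nonempty := by
    apply Set.nonempty_of_ncard_ne_zero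
    rw [h.cardF]
    exact Nat.mul_ne_zero hp.ne_zero (by omega)
  obtain ⟨β, hβ⟩ := hF
  have hst : (P : Subgroup G) ⊓ X ≤ stabilizer G β := fun y hy => h.fixF β hβ y (hinf hy)
  have ht2 : t = (stabilizer G β).relIndex X := by
    rw [← heq β, ← index_stabilizer]
    rfl
  have hnd : ¬ p ∣ t := by
    intro hd
    apply P.not_dvd_index
    refine hd.trans (dvd_trans ?_ (A1a_relIndex_dvd (P : Subgroup G) X))
    rw [ht2, ← Subgroup.inf_relIndex_right (P : Subgroup G) X]
    exact Subgroup.relIndex_dvd_of_le_left X hst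
  have hd2 : t ∣ 2 * q := by
    have h1 : t ∣ p * (2 * q) := by
      rw [show p * (2 * q) = 2 * p * q by ring]; exact hdvd
    exact (((Nat.Prime.coprime_iff_not_dvd hp).2 hnd).symm).dvd_of_dvd_mul_left h1
  obtain ⟨k, hk⟩ := hd2
  have hk0 : k ≠ 0 := by
    rintro rfl
    omega
  by_cases hk1 : k = 1
  · subst hk1; omega
  · have h2 : t * 2 ≤ t * k := Nat.mul_le_mul_left t (by omega)
    omega

end Cfsg.Agent.El2
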