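import Cfsg.Agent.El2.Defs

set_option autoImplicit false

namespace Cfsg.Agent.El2

open MulAction
open scoped Pointwise

theorem A1b_per {G α : Type*} [Group G] [MulAction G α] {p k : ℕ} (hp : p.Prime) {y : G}
    (hy : y ^ p ^ k = 1) (a : α) {T : Set α} (hT : T.Finite) (h : ∀ i : ℕ, y ^ i • a ∈ T) :
    ∃ n, period y a = p ^ n ∧ p ^ n ≤ T.ncard := by
  obtain ⟨n, -, e⟩ := (Nat.dvd_prime_pow hp).1
    ((period_dvd_orderOf y a).trans (orderOf_dvd_of_pow_eq_one hy))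
  refine ⟨n, e, ?_⟩
  rw [← e, ← Set.ncard_Iio_nat (period y a)]
  refine Set.ncard_le_ncard_of_injOn (fun i => (y • ·)^[i] a) (fun i _ => ?_) ?_ hT
  · rw [smul_iterate_apply]; exact h i
  · rw [period_eq_minimalPeriod]; exact Function.iterate_injOn_Iio_minimalPeriod

theorem A1b_lt {G α : Type*} [Group G] [MulAction G α] {p k : ℕ} (hp : p.Prime) {y : G}
    (hy : y ^ p ^ k = 1) (a : α) {T : Set α} (hT : T.Finite) (h : ∀ i : ℕ, y ^ i • a ∈ T)
    (hl : T.ncard < p) : y • a = a := by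
  obtain ⟨n, e, h1⟩ := A1b_per hp hy a hT h
  rcases n with _ | n
  · rw [← pow_one y, pow_smul_eq_iff_period_dvd, e, pow_zero]
  · exact absurd ((Nat.le_self_pow (by omega) p).trans h1) (not_le.2 hl)

theorem A1b_le {G α : Type*} [Group G] [MulAction G α] {p k : ℕ} (hp : p.Prime) {y : G}
    (hy : y ^ p ^ k = 1) (a : α) {T : Set α} (hT : T.Finite) (h : ∀ i : ℕ, y ^ i • a ∈ T)
    (hl : T.ncard ≤ p) : y ^ p • a = a := by
  obtain ⟨n, e, h1⟩ := A1b_per hp hy a hT h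
  rw [pow_smul_eq_iff_period_dvd, e]
  have h2 : p ^ n ≤ p ^ 1 := by rw [pow_one]; exact h1.trans hl
  have := pow_dvd_pow p ((Nat.pow_le_pow_iff_right hp.one_lt).1 h2)
  rwa [pow_one] at this

theorem A1b_smul {G Ω : Type*} [Group G] [MulAction G Ω] {H : Subgroup G} {n : G}
    (hn : n ∈ Subgroup.normalizer (H : Set G)) (ω : Ω) : n • orbit H ω = orbit H (n • ω) := by
  have h1 := Subgroup.mem_normalizer_iff.1 hn
  ext β
  constructor
  · rintro ⟨_, ⟨⟨r, hr⟩, rfl⟩, rfl⟩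
    exact ⟨⟨n * r * n⁻¹, (h1 r).1 hr⟩, by simp [mul_smul]⟩
  · rintro ⟨⟨r, hr⟩, rfl⟩
    refine ⟨_, ⟨⟨n⁻¹ * r * n, (h1 _).2 (by simpa [mul_assoc] using hr)⟩, rfl⟩, ?_⟩
    simp [mul_smul]

theorem A1b_pow {G α : Type*} [Group G] [MulAction G α] {y : G} {a : α} (h : y • a = a) (i : ℕ) :
    y ^ i • a = a := (stabilizer G a).pow_mem h i

variable {G Ω : Type*} [Group G] [Finite G] [MulAction G Ω] [Finite Ω] {p q : ℕ} [Fact p.Prime]
  {P : Sylow p G} {P0 : Subgroup G} {Γ : Set Ω}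

theorem El.a1b (h : El G Ω p q) (X : Subgroup G) [X.Normal]
    (ho : ∀ ω : Ω, Nat.card (orbit X ω) = 2 * q) : False := by
  have := h.trans
  have := Fact.mk h.hq
  have q3 := h.q3
  have qp := h.qp
  have hXn : ∀ g : G, g ∈ Subgroup.normalizer (X : Set G) := fun g => by
    rw [Subgroup.normalizer_eq_top]; trivial
  have ho' : ∀ ω : Ω, (orbit X ω).ncard = 2 * q := fun ω => by
    rw [← ho ω, Nat.card_coe_set_eq]
  have hO : ∀ ω : Ω, (orbit G (orbit X ω)).ncard = p := fun ω => by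
    have h1 := (IsBlock.orbit_of_normal (N := X) ω).ncard_block_mul_ncard_orbit_eq
      ⟨ω, mem_orbit_self ω⟩
    rw [ho', h.card] at h1
    exact Nat.eq_of_mul_eq_mul_left (by omega : 0 < 2 * q) (h1.trans (by ring))
  have : Nonempty Ω := by
    refine (Nat.card_pos_iff.1 ?_).1
    rw [h.card]
    have := h.hp.pos
    positivity
  obtain ⟨ω0⟩ := this
  obtain ⟨R⟩ : Nonempty (Sylow q X) := inferInstance
  set R' : Subgroup G := (R : Subgroup X).map X.subtype with hR'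
  have hRX : R' ≤ X := Subgroup.map_subtype_le _
  have hsub : ∀ ω : Ω, orbit R' ω ⊆ orbit X ω := by
    rintro ω _ ⟨⟨r, hr⟩, rfl⟩
    exact ⟨⟨r, hRX hr⟩, rfl⟩
  have hRq : ∀ ω : Ω, (orbit R' ω).ncard = q := fun ω => by
    obtain ⟨n, e⟩ := (R.isPGroup'.map X.subtype).card_orbit ω
    rw [Nat.card_coe_set_eq] at e
    change (orbit R' ω).ncard = q ^ n at e
    have h1 := Set.ncard_le_ncard (hsub ω) (Set.toFinite _)
    rw [e, ho'] at h1
    rcases n with _ | _ | n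
    · exfalso
      obtain ⟨a, ha⟩ := Set.ncard_eq_one.1 e
      have h2 : (R : Subgroup X) ≤ stabilizer X ω := fun r hr => by
        have m1 : (r : G) • ω ∈ orbit R' ω := ⟨⟨r, r, hr, rfl⟩, rfl⟩
        have m2 : ω ∈ orbit R' ω := mem_orbit_self ω
        rw [ha] at m1 m2
        exact m1.trans m2.symm
      have h3 := Subgroup.index_dvd_of_le h2
      rw [index_stabilizer, ho'] at h3
      exact R.not_dvd_index ((Dvd.intro_left 2 rfl).trans h3)
    · rw [e, zero_add, pow_one]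
    · exfalso
      have h2 : q ^ 2 ≤ q ^ (n + 1 + 1) := Nat.pow_le_pow_right (by omega) (by omega)
      nlinarith
  set N : Subgroup G := Subgroup.normalizer (R' : Set G) with hN
  have hF : N ⊔ X = ⊤ := R.normalizer_sup_eq_top
  have hNO : orbit N (orbit X ω0) = orbit G (orbit X ω0) := by
    ext B
    constructor
    · rintro ⟨⟨n, hn⟩, rfl⟩
      exact ⟨n, rfl⟩
    · rintro ⟨g, rfl⟩
      obtain ⟨n, hn, x, hx, rfl⟩ := Subgroup.mem_sup_of_normal_right.1 (hF.ge (Subgroup.mem_top g))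
      refine ⟨⟨n, hn⟩, ?_⟩
      change n • orbit X ω0 = (n * x) • orbit X ω0
      rw [mul_smul]
      exact congrArg _ (smul_orbit (⟨x, hx⟩ : X) ω0).symm
  obtain ⟨S⟩ : Nonempty (Sylow p N) := inferInstance
  obtain ⟨y, hyS, hy⟩ : ∃ y ∈ (S : Subgroup N), y ∉ stabilizer N (orbit X ω0) := by
    refine SetLike.not_le_iff_exists.1 fun h2 => ?_
    have h3 := Subgroup.index_dvd_of_le h2
    rw [index_stabilizer, hNO, hO] at h3
    exact S.not_dvd_index h3
  obtain ⟨k, hk⟩ := S.isPGroup' ⟨y, hyS⟩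
  have hk' : (y : G) ^ p ^ k = 1 := congrArg Subtype.val (congrArg Subtype.val hk)
  have hy' : (y : G) • orbit X ω0 ≠ orbit X ω0 := hy
  have hmem : ∀ ω ω' : Ω, orbit X ω ∈ orbit G (orbit X ω') := fun ω ω' => by
    obtain ⟨g, rfl⟩ := exists_smul_eq G ω' ω
    exact ⟨g, A1b_smul (hXn g) ω'⟩
  have hfree : ∀ ω : Ω, (y : G) • orbit X ω ≠ orbit X ω := fun ω e => by
    refine hy' (A1b_lt h.hp hk' _ (T := orbit G (orbit X ω0) \ {orbit X ω}) (Set.toFinite _)
      (fun i => ⟨⟨_, rfl⟩, fun e' => ?_⟩) ?_)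
    · have e1 : (y : G) ^ i • orbit X ω0 = (y : G) ^ i • orbit X ω :=
        (Set.mem_singleton_iff.1 e').trans (A1b_pow e i).symm
      rw [smul_left_cancel_iff] at e1
      exact hy' (by rw [e1, e])
    · rw [← hO ω0]
      exact Set.ncard_sdiff_singleton_lt_of_mem (hmem ω ω0)
  have hs : ((y : G) ^ p) ^ p ^ k = 1 := by rw [← pow_mul, mul_comm, pow_mul, hk', one_pow]
  have hsN : ∀ i : ℕ, ((y : G) ^ p) ^ i ∈ N := fun i => pow_mem (pow_mem y.2 p) i
  have h1 : (y : G) ^ p = 1 := by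
    refine h.faith _ fun ω => ?_
    have e1 : (y : G) ^ p • orbit X ω = orbit X ω :=
      A1b_le h.hp hk' _ (T := orbit G (orbit X ω)) (Set.toFinite _) (fun i => ⟨_, rfl⟩) (hO ω).le
    have e2 : (y : G) ^ p • orbit R' ω = orbit R' ω := by
      refine A1b_lt h.hp hs _ (T := {orbit R' ω, orbit X ω \ orbit R' ω}) (Set.toFinite _)
        (fun i => ?_) ((Set.ncard_insert_le _ _).trans_lt (by rw [Set.ncard_singleton]; omega))
      rw [A1b_smul (hsN i)]
      have m1 : ((y : G) ^ p) ^ i • ω ∈ orbit X ω := by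
        rw [← A1b_pow e1 i]
        exact Set.smul_mem_smul_set (mem_orbit_self ω)
      generalize ((y : G) ^ p) ^ i • ω = β at m1
      by_cases m2 : β ∈ orbit R' ω
      · exact Or.inl (orbit_eq_iff.2 m2)
      · refine Or.inr (Set.eq_of_subset_of_ncard_le (fun δ hδ => ⟨?_, fun h3 => m2 ?_⟩) ?_)
        · rw [← orbit_eq_iff.2 m1]
          exact hsub β hδ
        · rw [← orbit_eq_iff.2 h3, orbit_eq_iff.2 hδ]
          exact mem_orbit_self β
        · rw [Set.ncard_sdiff (hsub ω), ho', hRq, hRq]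
          omega
    refine A1b_lt h.hp hs ω (T := orbit R' ω) (Set.toFinite _) (fun i => ?_) (by rw [hRq]; exact qp)
    rw [← A1b_pow e2 i]
    exact Set.smul_mem_smul_set (mem_orbit_self ω)
  have h2 : (y : G) ≠ 1 := fun e => hy' (by rw [e, one_smul])
  obtain ⟨ω, e⟩ := h.elus y (by rw [orderOf_eq_prime h1 h2]; exact h.hp)
  exact hfree ω (by rw [A1b_smul (hXn _), e])

end Cfsg.Agent.El2
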