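import Cfsg.Agent.El2.Cov
import Cfsg.Agent.Solv.PGroupNormal

set_option autoImplicit false

namespace Cfsg.Agent.El2

open MulAction

variable {G Ω : Type*} [Group G] [Finite G] [MulAction G Ω] [Finite Ω] {p q : ℕ} [Fact p.Prime]
  {P : Sylow p G} {P0 : Subgroup G} {Γ : Set Ω}

omit [Finite Ω] in
theorem B1_dist (h : One p q P P0 Γ) (hB : ∀ ω : Ω, ∃ y ∈ P0, y • ω ≠ ω) :
    ∃ γ ∈ Γ, ∃ γ' ∈ Γ, ∃ y ∈ P0, y • γ = γ ∧ y • γ' ≠ γ' := by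
  classical
  by_contra hc
  push Not at hc
  obtain ⟨γ0, hγ0⟩ := h.ne
  obtain ⟨T, hT, hTΓ, hTr⟩ := h.reps
  have hU : IsPGroup p P0 := P.isPGroup'.to_le h.le
  have hcard : (insert (stabilizer G γ0) (T.image (stabilizer G))).card ≤ p := by
    have h1 := Finset.card_insert_le (stabilizer G γ0) (T.image (stabilizer G))
    have h2 : (T.image (stabilizer G)).card ≤ T.card := Finset.card_image_le
    have := h.qp
    have := h.p2q
    omega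
  obtain ⟨y, hy, hys⟩ := cover h.hp hU _ hcard (fun A hA hle => by
    have : ∃ ω : Ω, A = stabilizer G ω := by
      rcases Finset.mem_insert.1 hA with e | e
      · exact ⟨γ0, e⟩
      · obtain ⟨τ, -, e⟩ := Finset.mem_image.1 e
        exact ⟨τ, e.symm⟩
    obtain ⟨ω, rfl⟩ := this
    obtain ⟨y, hy, hne⟩ := hB ω
    exact hne (hle hy))
  have h0 : y • γ0 ≠ γ0 := hys _ (Finset.mem_insert_self _ _)
  have y1 : y ≠ 1 := fun e => h0 (by rw [e, one_smul])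
  obtain ⟨ω, hω⟩ := h.elus y (by rw [orderOf_eq_prime (h.pow y hy) y1]; exact h.hp)
  by_cases hΓ : ω ∈ Γ
  · exact h0 (hc ω hΓ γ0 hγ0 y hy hω)
  · obtain ⟨τ, hτ, x, hx, e⟩ := hTr ω hΓ
    have := h.nrmQ ω hΓ y (h.le hy) x⁻¹ (inv_mem hx) hω
    rw [← e, inv_smul_smul] at this
    exact hys _ (Finset.mem_insert_of_mem (Finset.mem_image_of_mem _ hτ)) this

theorem One.b1 (h : One p q P P0 Γ) (hB : ∀ ω : Ω, ∃ y ∈ P0, y • ω ≠ ω) :
    (∃ γ ∈ Γ, ∃ γ' ∈ Γ, ∃ y ∈ P0, y • γ = γ ∧ y • γ' ≠ γ') ∧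
    ∃ z ∈ P0, (∀ y ∈ (P : Subgroup G), y * z = z * y) ∧ (∀ ω ∉ Γ, z • ω = ω) ∧ ∀ γ ∈ Γ, z • γ ≠ γ := by
  have hd := B1_dist h hB
  refine ⟨hd, ?_⟩
  obtain ⟨γ, hγ, γ', hγ', w, hw, e1, e2⟩ := hd
  obtain ⟨x, hx, rfl⟩ := h.tr γ hγ γ' hγ'
  let D : Subgroup G :=
    { carrier := {u | u ∈ P0 ∧ ∀ ω ∉ Γ, u • ω = ω}
      one_mem' := ⟨one_mem _, fun ω _ => one_smul _ _⟩
      mul_mem' := fun {a b} ha hb => ⟨mul_mem ha.1 hb.1, fun ω hω => by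
        rw [mul_smul, hb.2 ω hω, ha.2 ω hω]⟩
      inv_mem' := fun {a} ha => ⟨inv_mem ha.1, fun ω hω => by
        rw [inv_smul_eq_iff, ha.2 ω hω]⟩ }
  have hDP : D ≤ P0 := fun _ hu => hu.1
  have hconj : ∀ y ∈ (P : Subgroup G), ∀ u ∈ D, y * u * y⁻¹ ∈ D := fun y hy u hu =>
    ⟨h.nrm y hy u hu.1, fun ω hω => by
      rw [mul_smul, mul_smul, h.comQ ω hω u (h.le hu.1) y⁻¹ (inv_mem hy), hu.2 ω hω,
        smul_inv_smul]⟩
  have hN : (P : Subgroup G) ≤ Subgroup.normalizer (D : Set G) := fun y hy =>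
    Subgroup.mem_normalizer_iff.2 fun u => ⟨hconj y hy u, fun hu => by
      simpa [mul_assoc] using hconj y⁻¹ (inv_mem hy) _ hu⟩
  have hc : x⁻¹ * w * x * w⁻¹ ∈ D :=
    ⟨mul_mem (by simpa using h.nrm x⁻¹ (inv_mem hx) w hw) (inv_mem hw), fun ω hω => by
      rw [mul_smul, mul_smul, mul_smul, h.comQ ω hω x hx w⁻¹ (inv_mem (h.le hw)), smul_inv_smul,
        inv_smul_smul]⟩
  have hc1 : x⁻¹ * w * x * w⁻¹ ≠ 1 := fun e => e2 (by
    have : w * x = x * w := by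
      calc w * x = x * (x⁻¹ * w * x * w⁻¹) * w := by group
        _ = x * w := by rw [e, mul_one]
    rw [← mul_smul, this, mul_smul, e1])
  obtain ⟨z, hz, hz1, -, -, hzc⟩ := Cfsg.Lib.Solv.PG.exists_step_elt (p := p) (M := ⊥)
    P.isPGroup' (P.isPGroup'.to_le (hDP.trans h.le))
    (fun b _ => Subgroup.mem_normalizer_iff.2 fun x => by simp) hN
    (bot_lt_iff_ne_bot.2 fun e => hc1 (by rwa [e] at hc))
  have hcen : ∀ y ∈ (P : Subgroup G), y * z = z * y := fun y hy =>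
    (commutatorElement_eq_one_iff_mul_comm.1
      (Subgroup.mem_bot.1 (hzc y (Subgroup.mem_sup_left hy)))).symm
  refine ⟨z, hz.1, hcen, hz.2, fun δ hδ e => hz1 (Subgroup.mem_bot.2 (h.faith z fun ω => ?_))⟩
  by_cases hω : ω ∈ Γ
  · obtain ⟨y, hy, rfl⟩ := h.tr δ hδ ω hω
    rw [← mul_smul, ← hcen y hy, mul_smul, e]
  · exact hz.2 ω hω

end Cfsg.Agent.El2
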