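import Cfsg.Agent.El2.Cov

set_option autoImplicit false
set_option linter.unusedSectionVars false

namespace Cfsg.Agent.El2

open MulAction

variable {G Ω : Type*} [Group G] [Finite G] [MulAction G Ω] [Finite Ω] {p q : ℕ} [Fact p.Prime]
  {P : Sylow p G} {P0 : Subgroup G} {Γ : Set Ω}

omit [Finite G] [Finite Ω] in
theorem B2_pow {x : G} {ω : Ω} (h : x • ω = ω) (i : ℕ) : x ^ i • ω = ω :=
  mem_stabilizer_iff.1 (pow_mem (mem_stabilizer_iff.2 h) i)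

omit [Finite G] [Finite Ω] in
theorem B2_zk (h : One p q P P0 Γ) {z : G} (hz : z ∈ P0) {γ : Ω} (hγ : z • γ ≠ γ) {k : ℕ}
    (k0 : 0 < k) (kp : k < p) : z ^ k • γ ≠ γ := fun e => by
  have c : k.Coprime (orderOf z) :=
    ((Nat.coprime_of_lt_prime k0.ne' kp h.hp).symm).coprime_dvd_right
      (orderOf_dvd_of_pow_eq_one (h.pow z hz))
  obtain ⟨m, hm⟩ := exists_pow_eq_self_of_coprime c
  exact hγ (hm ▸ B2_pow e m)

omit [Finite G] [Finite Ω] in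
theorem B2_blk (h : One p q P P0 Γ) {a y : G} (ha : a ∈ P0) (hy : y ∈ P0) (τ : Ω) :
    a • y • τ = y • τ ↔ a • τ = τ := by
  rw [← mul_smul, h.comm a ha y hy, mul_smul, smul_left_cancel_iff]

omit [Finite G] [Finite Ω] in
theorem B2_fix (h : One p q P P0 Γ) {γ γ' : Ω} (h1 : γ ∈ Γ) (h2 : γ' ∈ Γ) {y : G} (hy : y ∈ P0)
    (y1 : y • γ = γ) (y2 : y • γ' ≠ γ') {z : G} (hz : z ∈ P0) (hzF : ∀ ω ∉ Γ, z • ω = ω)
    (hzΓ : ∀ γ ∈ Γ, z • γ ≠ γ) {w : G} (hw : w ∈ P0) (w1 : w • γ = γ) (w2 : w • γ' = γ') :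
    ∃ ω ∉ Γ, w • ω = ω := by
  by_contra hn
  push Not at hn
  obtain ⟨T, hT, TΓ, hb⟩ := h.blks
  have hp := h.hp
  have key : ∀ i : ℕ, ∃ τ, i ≤ p → τ ∈ T ∧ (w * z ^ i) • τ = τ ∧ (i = 0 → y • τ = τ) ∧
      (i = p → y • τ ≠ τ) := by
    intro i
    by_cases ip : i ≤ p
    swap
    · exact ⟨γ, fun e => absurd e ip⟩
    by_cases i0 : i = 0
    · obtain ⟨τ, hτ, b, hb', rfl⟩ := hb γ h1
      refine ⟨τ, fun _ => ⟨hτ, ?_, fun _ => (B2_blk h hy hb' τ).1 y1, fun e => ?_⟩⟩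
      · rw [i0, pow_zero, mul_one]; exact (B2_blk h hw hb' τ).1 w1
      · exact absurd (i0.symm.trans e) hp.pos.ne
    by_cases i1 : i = p
    · obtain ⟨τ, hτ, b, hb', rfl⟩ := hb γ' h2
      refine ⟨τ, fun _ => ⟨hτ, ?_, fun e => absurd e i0,
        fun _ e => y2 ((B2_blk h hy hb' τ).2 e)⟩⟩
      rw [i1, h.pow z hz, mul_one]; exact (B2_blk h hw hb' τ).1 w2
    have m : w * z ^ i ∈ P0 := mul_mem hw (pow_mem hz i)
    have ne : w * z ^ i ≠ 1 := fun e => by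
      refine B2_zk h hz (hzΓ γ h1) (Nat.pos_of_ne_zero i0) (lt_of_le_of_ne ip i1) ?_
      rw [h.comm w hw _ (pow_mem hz i)] at e
      calc z ^ i • γ = z ^ i • w • γ := by rw [w1]
        _ = γ := by rw [← mul_smul, e, one_smul]
    obtain ⟨δ, hδ⟩ := h.elus (w * z ^ i) (by rw [orderOf_eq_prime (h.pow _ m) ne]; exact hp)
    have δΓ : δ ∈ Γ := by
      by_contra c
      rw [mul_smul, B2_pow (hzF δ c)] at hδ
      exact hn δ c hδ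
    obtain ⟨τ, hτ, b, hb', rfl⟩ := hb δ δΓ
    exact ⟨τ, fun _ => ⟨hτ, (B2_blk h m hb' τ).1 hδ, fun e => absurd e i0, fun e => absurd e i1⟩⟩
  choose f hf using key
  have lt : ∀ i j : ℕ, i < j → j ≤ p → f i ≠ f j := by
    intro i j ij jp e
    obtain ⟨a1, a2, a3, -⟩ := hf i (ij.le.trans jp)
    obtain ⟨-, b2, -, b4⟩ := hf j jp
    rw [← e] at b2 b4
    by_cases c : i = 0 ∧ j = p
    · exact b4 c.2 (a3 c.1)
    refine B2_zk h hz (hzΓ _ (TΓ _ a1)) (k := j - i) (by omega) (by omega) ?_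
    have : w * z ^ j = w * z ^ i * z ^ (j - i) := by
      rw [mul_assoc, ← pow_add, Nat.add_sub_cancel' ij.le]
    rw [this, mul_smul] at b2
    exact smul_left_cancel _ (b2.trans a2.symm)
  obtain ⟨i, hi, j, hj, ij, e⟩ := Finset.exists_ne_map_eq_of_card_lt_of_maps_to
    (s := Finset.range (p + 1)) (t := T) (by rw [Finset.card_range]; omega) (f := f)
    fun i hi => (hf i (Nat.lt_succ_iff.1 (Finset.mem_range.1 hi))).1
  rw [Finset.mem_range] at hi hj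
  rcases lt_or_gt_of_ne ij with c | c
  · exact lt i j c (by omega) e
  · exact lt j i c (by omega) e.symm

omit [Finite G] [Finite Ω] in
theorem B2_sw (h : One p q P P0 Γ) (hB : ∀ ω : Ω, ∃ y ∈ P0, y • ω ≠ ω) {γ γ' ω : Ω} (h1 : γ ∈ Γ)
    (h2 : γ' ∈ Γ) {z : G} (hz : z ∈ P0) (zω : z • ω = ω) (zγ : z • γ ≠ γ)
    (hU : ∀ u ∈ P0, u • γ = γ → u • γ' = γ' → u • ω = ω) {v : G} (hv : v ∈ P0)
    (vω : v • ω = ω) (vγ : v • γ = γ) : v • γ' = γ' := by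
  by_contra c
  have a : ∀ w ∈ P0, w • γ = γ → w • ω = ω := fun w hw e => by
    obtain ⟨i, hi⟩ := h.cyc γ' h2 v hv c w hw
    have := hU ((v ^ i)⁻¹ * w) (mul_mem (inv_mem (pow_mem hv i)) hw)
      (by rw [mul_smul, e, inv_smul_eq_iff, B2_pow vγ])
      (by rw [mul_smul, hi, inv_smul_smul])
    rwa [mul_smul, inv_smul_eq_iff, B2_pow vω] at this
  obtain ⟨w, hw, e⟩ := hB ω
  obtain ⟨i, hi⟩ := h.cyc γ h1 z hz zγ w hw
  have := a ((z ^ i)⁻¹ * w) (mul_mem (inv_mem (pow_mem hz i)) hw)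
    (by rw [mul_smul, hi, inv_smul_smul])
  rw [mul_smul, inv_smul_eq_iff, B2_pow zω] at this
  exact e this

theorem One.b2 (h : One p q P P0 Γ) (hB : ∀ ω : Ω, ∃ y ∈ P0, y • ω ≠ ω)
    (hd : ∃ γ ∈ Γ, ∃ γ' ∈ Γ, ∃ y ∈ P0, y • γ = γ ∧ y • γ' ≠ γ') {z : G} (hz : z ∈ P0)
    (hzc : ∀ y ∈ (P : Subgroup G), y * z = z * y) (hzF : ∀ ω ∉ Γ, z • ω = ω) (hzΓ : ∀ γ ∈ Γ, z • γ ≠ γ) :
    ∃ ω0 ∉ Γ, ∀ u ∈ P0, u • ω0 = ω0 → ∃ i : ℕ, ∀ γ ∈ Γ, (u * z ^ i) • γ = γ := by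
  classical
  have _ := hzc
  obtain ⟨γ, h1, γ', h2, y, hy, y1, y2⟩ := hd
  obtain ⟨T, hT, TF, hr⟩ := h.reps
  have qp := h.qp
  obtain ⟨ω, ωF, hU⟩ : ∃ ω ∉ Γ, ∀ u ∈ P0, u • γ = γ → u • γ' = γ' → u • ω = ω := by
    by_contra hn
    obtain ⟨w, ⟨⟨hw, w1⟩, w2⟩, hA⟩ := cover h.hp
      (U := P0 ⊓ stabilizer G γ ⊓ stabilizer G γ')
      (P.isPGroup'.to_le ((inf_le_left.trans inf_le_left).trans h.le))
      (T.image (stabilizer G)) (Finset.card_image_le.trans (by omega)) fun A hA e => by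
        obtain ⟨τ, hτ, rfl⟩ := Finset.mem_image.1 hA
        exact hn ⟨τ, TF τ hτ, fun u hu a b => e ⟨⟨hu, a⟩, b⟩⟩
    obtain ⟨ω, ωF, e⟩ := B2_fix h h1 h2 hy y1 y2 hz hzF hzΓ hw w1 w2
    obtain ⟨τ, hτ, x, hx, rfl⟩ := hr ω ωF
    have := h.nrmQ _ ωF w (h.le hw) x⁻¹ (inv_mem hx) e
    rw [inv_smul_smul] at this
    exact hA _ (Finset.mem_image_of_mem _ hτ) this
  have s1 : ∀ v ∈ P0, v • ω = ω → v • γ = γ → v • γ' = γ' := fun v hv a b =>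
    B2_sw h hB h1 h2 hz (hzF ω ωF) (hzΓ γ h1) hU hv a b
  have s2 : ∀ v ∈ P0, v • ω = ω → v • γ' = γ' → v • γ = γ := fun v hv a b =>
    B2_sw h hB h2 h1 hz (hzF ω ωF) (hzΓ γ' h2) (fun u hu a b => hU u hu b a) hv a b
  obtain ⟨x, hx, ex⟩ := h.tr γ h1 γ' h2
  have x0 : x ∉ P0 := fun c => y2 (ex ▸ (B2_blk h hy c γ).2 y1)
  have cj : ∀ i : ℕ, ∀ u ∈ P0, u • ω = ω → u • γ = γ →
      (x ^ i * u * (x ^ i)⁻¹) • ω = ω ∧ (x ^ i * u * (x ^ i)⁻¹) • γ = γ := by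
    intro i u hu a b
    induction i with
    | zero => simpa using ⟨a, b⟩
    | succ i ih =>
      have m := h.nrm _ (pow_mem hx i) u hu
      have e : x ^ (i + 1) * u * (x ^ (i + 1))⁻¹ = x * (x ^ i * u * (x ^ i)⁻¹) * x⁻¹ := by
        rw [pow_succ']; group
      have c : (x * (x ^ i * u * (x ^ i)⁻¹) * x⁻¹) • ω = ω := by
        rw [mul_smul, mul_smul, h.nrmQ ω ωF _ (h.le m) x⁻¹ (inv_mem hx) ih.1, smul_inv_smul]
      rw [e]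
      refine ⟨c, s2 _ (h.nrm x hx _ m) c ?_⟩
      rw [← ex, mul_smul, inv_smul_smul, mul_smul, ih.2]
  refine ⟨ω, ωF, fun u hu a => ?_⟩
  obtain ⟨i, hi⟩ := h.cyc γ h1 z hz (hzΓ γ h1) u⁻¹ (inv_mem hu)
  refine ⟨i, fun δ hδ => ?_⟩
  have m : u * z ^ i ∈ P0 := mul_mem hu (pow_mem hz i)
  obtain ⟨b, hb, rfl⟩ := h.tr γ h1 δ hδ
  obtain ⟨j, w, hw, e⟩ := h.gen x hx x0 b⁻¹ (inv_mem hb)
  have c := (cj j _ m (by rw [mul_smul, B2_pow (hzF ω ωF), a])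
    (by rw [mul_smul, ← hi, smul_inv_smul])).2
  have e2 : x ^ j * (u * z ^ i) * (x ^ j)⁻¹ = b⁻¹ * (u * z ^ i) * b := by
    rw [← inv_inv b, e, inv_inv, mul_assoc (x ^ j) w, h.comm w hw _ m]; group
  rw [e2, mul_smul, mul_smul, inv_smul_eq_iff] at c
  exact c

end Cfsg.Agent.El2
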