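import Cfsg.Agent.El2.Cov

set_option autoImplicit false

namespace Cfsg.Agent.El2

open MulAction

variable {G Ω : Type*} [Group G] [Finite G] [MulAction G Ω] [Finite Ω] {p q : ℕ} [Fact p.Prime]
  {P : Sylow p G} {P0 : Subgroup G} {Γ : Set Ω}

omit [Finite G] [Finite Ω] [Fact p.Prime] in
theorem B3_cen (h : One p q P P0 Γ) {u : G} (hu : u ∈ (P : Subgroup G)) (hf : ∀ γ ∈ Γ, u • γ = γ)
    {y : G} (hy : y ∈ (P : Subgroup G)) : Commute u y := by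
  have := h.faith ((y * u)⁻¹ * (u * y)) fun ω => by
    rw [mul_smul, inv_smul_eq_iff, mul_smul, mul_smul]
    by_cases hω : ω ∈ Γ
    · rw [hf _ (h.inv y hy ω hω), hf ω hω]
    · exact h.comQ ω hω u hu y hy
  exact (inv_mul_eq_one.1 this).symm

omit [Finite Ω] in
theorem B3_out (h : One p q P P0 Γ) (hB : ∀ ω : Ω, ∃ y ∈ P0, y • ω ≠ ω) {ω : Ω} (hω : ω ∉ Γ) :
    ∃ x ∈ (P : Subgroup G), x • ω = ω ∧ x ∉ P0 := by
  by_contra hn
  push Not at hn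
  have le : (P : Subgroup G) ⊓ stabilizer G ω ≤ P0 := fun x hx => hn x hx.1 hx.2
  have e := (h.idx.symm.trans (h.cardQ ω hω))
  have e' := Subgroup.eq_of_le_of_card_ge le (Nat.eq_of_mul_eq_mul_left h.hp.pos e).le
  obtain ⟨y, hy, ne⟩ := hB ω
  rw [← e'] at hy
  exact ne hy.2

theorem One.b3 (h : One p q P P0 Γ) (hB : ∀ ω : Ω, ∃ y ∈ P0, y • ω ≠ ω)
    (hd : ∃ γ ∈ Γ, ∃ γ' ∈ Γ, ∃ y ∈ P0, y • γ = γ ∧ y • γ' ≠ γ') {z : G} (hz : z ∈ P0)
    (hzc : ∀ y ∈ (P : Subgroup G), y * z = z * y) (hzF : ∀ ω ∉ Γ, z • ω = ω)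
    (h0 : ∃ ω0 ∉ Γ, ∀ u ∈ P0, u • ω0 = ω0 → ∃ i : ℕ, ∀ γ ∈ Γ, (u * z ^ i) • γ = γ) :
    (∀ ω ∉ Γ, ∀ u ∈ P0, u • ω = ω → u ∈ Subgroup.zpowers z) ∧
    (∀ ω ∉ Γ, ∀ a ∈ (P : Subgroup G), ∀ b ∈ (P : Subgroup G), a • ω = ω → b • ω = ω → a * b = b * a) := by
  obtain ⟨ω0, hω0, h0⟩ := h0
  have hV : ∀ u ∈ P0, u • ω0 = ω0 → ∀ y ∈ (P : Subgroup G), Commute u y := fun u hu e y hy => by
    obtain ⟨i, hi⟩ := h0 u hu e
    have c1 := B3_cen h (h.le (mul_mem hu (pow_mem hz i))) hi hy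
    have c2 : Commute (z ^ i) y := (show Commute z y from (hzc y hy).symm).pow_left i
    simpa using c1.mul_left c2.inv_left
  have hQ0 : ∀ a ∈ (P : Subgroup G), ∀ b ∈ (P : Subgroup G), a • ω0 = ω0 → b • ω0 = ω0 →
      Commute a b := fun a ha b hb ea eb => by
    obtain ⟨x, hx, ex, nx⟩ := B3_out h hB hω0
    have fx : ∀ (i : ℕ) (w : G), (x ^ i * w) • ω0 = ω0 → w • ω0 = ω0 := fun i w e => by
      have : x ^ i • ω0 = ω0 := pow_mem (show x ∈ stabilizer G ω0 from ex) i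
      rw [mul_smul] at e
      exact smul_left_cancel _ (e.trans this.symm)
    obtain ⟨i, w, hw, rfl⟩ := h.gen x hx nx a ha
    obtain ⟨j, w', hw', rfl⟩ := h.gen x hx nx b hb
    refine Commute.mul_left (Commute.mul_right ((Commute.refl x).pow_pow i j) ?_)
      (hV w hw (fx i w ea) _ hb)
    exact (hV w' hw' (fx j w' eb) _ (pow_mem hx i)).symm
  have hQ : ∀ ω ∉ Γ, ∀ a ∈ (P : Subgroup G), ∀ b ∈ (P : Subgroup G), a • ω = ω → b • ω = ω →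
      a * b = b * a := fun ω hω a ha b hb ea eb => by
    obtain ⟨g, -, hg⟩ := h.st ω ((P : Subgroup G) ⊓ stabilizer G ω) (P.isPGroup'.to_le inf_le_left)
      inf_le_right ω0 hω0
    have h1 := hg a ⟨ha, ea⟩
    have h2 := hg b ⟨hb, eb⟩
    have := (hQ0 _ h1.1 _ h2.1 h1.2 h2.2).eq
    calc a * b = g * (g⁻¹ * a * g * (g⁻¹ * b * g)) * g⁻¹ := by group
      _ = b * a := by rw [this]; group
  refine ⟨?_, hQ⟩
  have hC : ∀ ω ∉ Γ, ∀ u ∈ P0, u • ω = ω → ∀ y ∈ (P : Subgroup G), Commute u y :=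
    fun ω hω u hu e y hy => by
      obtain ⟨x, hx, ex, nx⟩ := B3_out h hB hω
      obtain ⟨i, w, hw, rfl⟩ := h.gen x hx nx y hy
      exact ((show Commute u x from hQ ω hω u (h.le hu) x hx e ex).pow_right i).mul_right
        (h.comm u hu w hw)
  have hF : ∀ c ∈ P0, (∀ y ∈ (P : Subgroup G), Commute c y) → ∀ ω ∉ Γ, c • ω = ω :=
    fun c hc cc ω hω => by
      by_contra ne
      obtain ⟨γ, hγ, γ', hγ', y, hy, e1, e2⟩ := hd
      obtain ⟨t, ht, rfl⟩ := h.tr γ hγ γ' hγ'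
      obtain ⟨i, hi⟩ := (small_pt h.hp (P.isPGroup'.to_le h.le) ω (h.orbLe ω)).2.2.2 c hc ne y hy
      have c1 := hC ω hω ((c ^ i)⁻¹ * y) (mul_mem (inv_mem (pow_mem hc i)) hy)
        (by rw [mul_smul, hi, inv_smul_smul]) t ht
      have c2 : Commute y t := by simpa using ((cc t ht).pow_left i).mul_left c1
      exact e2 (by rw [← mul_smul, c2.eq, mul_smul, e1])
  intro ω hω u hu e
  have fu := hF u hu (hC ω hω u hu e)
  obtain ⟨i, hi⟩ := h0 u hu (fu ω0 hω0)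
  have := h.faith (u * z ^ i) fun ω' => by
    by_cases h' : ω' ∈ Γ
    · exact hi ω' h'
    · have : z ^ i • ω' = ω' := pow_mem (show z ∈ stabilizer G ω' from hzF ω' h') i
      rw [mul_smul, this, fu ω' h']
  rw [eq_inv_of_mul_eq_one_left this]
  exact inv_mem (Subgroup.npow_mem_zpowers z i)

end Cfsg.Agent.El2
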