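import Cfsg.Agent.El2.Defs
import Cfsg.Agent.Trans.SylowIn
import Cfsg.Agent.Trans.Conj

set_option autoImplicit false
set_option linter.unusedSectionVars false

namespace Cfsg.Agent.El2

open MulAction Cfsg.Lib.Trans

variable {G Ω : Type*} [Group G] [Finite G] [MulAction G Ω] [Finite Ω] {p q : ℕ} [Fact p.Prime]
  {P : Sylow p G} {P0 : Subgroup G} {Γ : Set Ω}

theorem B4_cen {n z : G} {m : ℕ} (hn : n ^ p ^ m = 1) (hz : z ^ p = 1)
    (h : n * z * n⁻¹ ∈ Subgroup.zpowers z) : n * z = z * n := by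
  obtain ⟨k, hk⟩ := (mem_powers_iff_mem_zpowers.2 h : n * z * n⁻¹ ∈ Submonoid.powers z)
  change z ^ k = _ at hk
  have h1 : ∀ j : ℕ, n ^ j * z * (n ^ j)⁻¹ = z ^ k ^ j := by
    intro j
    induction j with
    | zero => simp
    | succ j ih =>
      calc n ^ (j + 1) * z * (n ^ (j + 1))⁻¹ = n * (n ^ j * z * (n ^ j)⁻¹) * n⁻¹ := by
            rw [pow_succ']; group
        _ = (n * z * n⁻¹) ^ k ^ j := by rw [ih, conj_pow]
        _ = z ^ k ^ (j + 1) := by rw [← hk, ← pow_mul, pow_succ']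
  have h2 := h1 (p ^ m)
  rw [hn, one_mul, inv_one, mul_one] at h2
  have h3 : k ^ p ^ m ≡ k [MOD p] := by
    rw [← ZMod.natCast_eq_natCast_iff, Nat.cast_pow, ZMod.pow_card_pow]
  have h4 : z ^ k ^ p ^ m = z ^ k :=
    pow_eq_pow_iff_modEq.2 (h3.of_dvd (orderOf_dvd_of_pow_eq_one hz))
  rw [h4, hk] at h2
  exact (eq_mul_inv_iff_mul_eq.1 h2).symm

theorem One.b4 (h : One p q P P0 Γ) (hB : ∀ ω : Ω, ∃ y ∈ P0, y • ω ≠ ω)
    (hd : ∃ γ ∈ Γ, ∃ γ' ∈ Γ, ∃ y ∈ P0, y • γ = γ ∧ y • γ' ≠ γ') {z : G} (hz : z ∈ P0)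
    (hzF : ∀ ω ∉ Γ, z • ω = ω) (hzΓ : ∀ γ ∈ Γ, z • γ ≠ γ)
    (hV : ∀ ω ∉ Γ, ∀ u ∈ P0, u • ω = ω → u ∈ Subgroup.zpowers z)
    (hQ : ∀ ω ∉ Γ, ∀ a ∈ (P : Subgroup G), ∀ b ∈ (P : Subgroup G), a • ω = ω → b • ω = ω → a * b = b * a) :
    ∃ n ∈ Subgroup.normalizer (P0 : Set G), ∃ ω0 ∉ Γ, n • ω0 ∈ Γ := by
  obtain ⟨γ, hγ, γ', hγ', y0, hy0, hy1, hy2⟩ := hd
  have hp := h.hp
  obtain ⟨ω0, hω0⟩ : Γᶜ.Nonempty := Set.nonempty_of_ncard_ne_zero (by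
    rw [h.cardF]
    exact Nat.mul_ne_zero hp.ne_zero (by have := h.p2q; omega))
  have hP0 : IsPGroup p P0 := P.isPGroup'.to_le h.le
  let W : Subgroup G := (P : Subgroup G) ⊓ stabilizer G γ
  have hW : W ≤ P0 := fun w hw => h.stabΓ γ hγ w hw.1 hw.2
  have hC : P0 ≤ Subgroup.centralizer (W : Set G) := fun a ha w hw => h.comm w (hW hw) a ha
  obtain ⟨g, hg, hg'⟩ := h.st γ W (P.isPGroup'.to_le inf_le_left) inf_le_right ω0 hω0
  let Q : Subgroup G := cj g ((P : Subgroup G) ⊓ stabilizer G ω0)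
  have hQC : Q ≤ Subgroup.centralizer (W : Set G) := fun a ha w hw => by
    have h1 := mem_cj.1 ha
    have h2 := hQ ω0 hω0 _ (hg' w hw).1 _ h1.1 (hg' w hw).2 h1.2
    calc w * a = g * (g⁻¹ * w * g * (g⁻¹ * a * g)) * g⁻¹ := by group
      _ = a * w := by rw [h2]; group
  have hcQ : Nat.card Q = Nat.card P0 := by
    rw [card_cj]
    exact Nat.eq_of_mul_eq_mul_left hp.pos ((h.cardQ ω0 hω0).symm.trans h.idx)
  obtain ⟨S, hS, hS'⟩ := exists_isSylowIn_ge hP0 hC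
  have hlt : P0 < S := by
    refine lt_of_le_of_ne hS' ?_
    rintro rfl
    obtain ⟨x, -, hx⟩ := hS.exists_cj_le (isPGroup_cj (P.isPGroup'.to_le inf_le_left) g) hQC
    have h1 : cj x Q = P0 := Subgroup.eq_of_le_of_card_ge hx (by rw [card_cj, hcQ])
    obtain ⟨y, hy, hy'⟩ := hB ((x * g) • ω0)
    rw [← h1, cj_cj] at hy
    have h2 : ((x * g)⁻¹ * y * (x * g)) • ω0 = ω0 := (mem_cj.1 hy).2
    rw [mul_assoc, mul_smul, inv_smul_eq_iff, mul_smul] at h2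
    exact hy' h2
  obtain ⟨n, hn, hn'⟩ := SetLike.exists_of_lt (lt_inf_normalizer hS.isPGroup hlt)
  refine ⟨n, hn.2, ω0, hω0, ?_⟩
  by_contra hne
  have h1 : n * z * n⁻¹ ∈ Subgroup.zpowers z :=
    hV _ hne _ (mem_normalizer_conj hn.2 hz) (by
      rw [mul_smul, inv_smul_smul, mul_smul, hzF ω0 hω0])
  obtain ⟨m, hm⟩ := hS.isPGroup ⟨n, hn.1⟩
  have h2 : n * z = z * n := B4_cen (congrArg Subtype.val hm) (h.pow z hz) h1
  have h3 : n ∈ Subgroup.centralizer (P0 : Set G) := fun w hw => by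
    obtain ⟨i, hi⟩ := h.cyc γ hγ z hz (hzΓ γ hγ) w hw
    have h4 : (z ^ i)⁻¹ * w ∈ W := ⟨h.le (mul_mem (inv_mem (pow_mem hz i)) hw), by
      change ((z ^ i)⁻¹ * w) • γ = γ
      rw [mul_smul, hi, inv_smul_smul]⟩
    have h5 := hS.le hn.1 _ h4
    have h6 : n * z ^ i = z ^ i * n := (Commute.pow_right h2 i).eq
    calc w * n = z ^ i * ((z ^ i)⁻¹ * w * n) := by group
      _ = n * w := by rw [h5, ← mul_assoc, ← h6]; group
  have h4 : Subgroup.zpowers n ≤ Subgroup.centralizer (P0 : Set G) := Subgroup.zpowers_le.2 h3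
  have h5 : P0 ⊔ Subgroup.zpowers n ≤
      Subgroup.centralizer ((P0 ⊔ Subgroup.zpowers n : Subgroup G) : Set G) :=
    sup_le (Subgroup.le_centralizer_iff.1 (sup_le (fun a ha w hw => h.comm w hw a ha) h4))
      (Subgroup.le_centralizer_iff.1 (sup_le (Subgroup.le_centralizer_iff.1 h4)
        (Subgroup.le_centralizer _)))
  have h6 : IsPGroup p ↥(P0 ⊔ Subgroup.zpowers n) :=
    hS.isPGroup.to_le (sup_le hS' (Subgroup.zpowers_le.2 hn.1))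
  have h7 : Nat.card (P : Subgroup G) ≤ Nat.card ↥(P0 ⊔ Subgroup.zpowers n) := by
    have h8 : Nat.card P0 < Nat.card ↥(P0 ⊔ Subgroup.zpowers n) :=
      card_lt_of_lt (lt_of_le_of_ne le_sup_left fun e =>
        hn' (e ▸ Subgroup.mem_sup_right (Subgroup.mem_zpowers n)))
    obtain ⟨a, ha⟩ := IsPGroup.iff_card.1 hP0
    obtain ⟨b, hb⟩ := IsPGroup.iff_card.1 h6
    rw [ha, hb, Nat.pow_lt_pow_iff_right hp.one_lt] at h8
    refine (le_of_eq h.idx).trans ?_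
    rw [ha, hb, ← pow_succ']
    exact Nat.pow_le_pow_right hp.pos h8
  obtain ⟨x, -, hx⟩ := (isSylowIn_top P).exists_cj_eq ((isSylowIn_top P).of_card_ge h6 le_top h7)
  obtain ⟨y, hy, rfl⟩ := h.tr γ hγ γ' hγ'
  have h8 := h5 (mem_cj.1 (hx.ge hy)) _ (mem_cj.1 (hx.ge (h.le hy0)))
  have h9 : y0 * y = y * y0 := by
    calc y0 * y = x * (x⁻¹ * y0 * x * (x⁻¹ * y * x)) * x⁻¹ := by group
      _ = y * y0 := by rw [h8]; group
  exact hy2 (by rw [← mul_smul, h9, mul_smul, hy1])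

end Cfsg.Agent.El2
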