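import Cfsg.Agent.El2.LK

set_option autoImplicit false

namespace Cfsg.Agent.El2

open MulAction

variable {G Ω : Type*} [Group G] [Finite G] [MulAction G Ω] [Finite Ω] {p q : ℕ} [Fact p.Prime]
  {P : Sylow p G} {P0 : Subgroup G} {Γ : Set Ω}

theorem B5_orb (h : One p q P P0 Γ) (hB : ∀ ω : Ω, ∃ y ∈ P0, y • ω ≠ ω) (ω : Ω) :
    Nat.card (orbit P0 ω) = p := by
  by_cases hω : ω ∈ Γ
  · exact h.orbB ω hω
  have hE : IsPGroup p P0 := P.isPGroup'.to_le h.le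
  obtain ⟨n, hn⟩ := hE.card_orbit ω
  have hle := h.orbLe ω
  have hp : p.Prime := Fact.out
  rw [hn] at hle ⊢
  rcases n with _ | n
  · exfalso
    obtain ⟨y, hy, hne⟩ := hB ω
    rw [pow_zero] at hn
    have hs : Subsingleton (orbit P0 ω) := (Nat.card_eq_one_iff_unique.mp hn).1
    have h1 : (⟨y • ω, ⟨⟨y, hy⟩, rfl⟩⟩ : orbit P0 ω) = ⟨ω, mem_orbit_self ω⟩ := Subsingleton.elim _ _
    exact hne (congrArg Subtype.val h1)
  · rcases n with _ | n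
    · simp
    · exfalso
      have h2 : p ^ 1 < p ^ (n + 1 + 1) := Nat.pow_lt_pow_right hp.one_lt (by omega)
      rw [pow_one] at h2
      omega

theorem B5_nrm (h : One p q P P0 Γ) {y : G} (hy : y ∈ (P : Subgroup G)) :
    y ∈ Subgroup.normalizer (P0 : Set G) := by
  rw [Subgroup.mem_normalizer_iff]
  intro w
  constructor
  · exact fun hw => h.nrm y hy w hw
  · intro hw
    have h1 := h.nrm y⁻¹ (inv_mem hy) _ hw
    have h2 : y⁻¹ * (y * w * y⁻¹) * y⁻¹⁻¹ = w := by group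
    rwa [h2] at h1

theorem One.b5 (h : One p q P P0 Γ) (hB : ∀ ω : Ω, ∃ y ∈ P0, y • ω ≠ ω) {z : G}
    (hzF : ∀ ω ∉ Γ, z • ω = ω) (hV : ∀ ω ∉ Γ, ∀ u ∈ P0, u • ω = ω → u ∈ Subgroup.zpowers z)
    (hn : ∃ n ∈ Subgroup.normalizer (P0 : Set G), ∃ ω0 ∉ Γ, n • ω0 ∈ Γ) : False := by
  have hE : IsPGroup p P0 := P.isPGroup'.to_le h.le
  have hF : ∀ a ∉ Γ, ∀ b ∉ Γ, ∀ y ∈ P0, y • a = a → y • b = b := by
    intro a ha b hb y hy hya
    have h1 : Subgroup.zpowers z ≤ stabilizer G b := by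
      rw [Subgroup.zpowers_le]
      exact hzF b hb
    exact h1 (hV a ha y hy hya)
  have hF' : ∀ a ∉ Γ, ∀ b ∉ Γ, ∀ y ∈ P0, (y • a = a ↔ y • b = b) :=
    fun a ha b hb y hy => ⟨hF a ha b hb y hy, hF b hb a ha y hy⟩
  obtain ⟨n0, hn0, ω0, hω0, hΓ0⟩ := hn
  refine El.lemK h.toEl P0 hE (B5_orb h hB) ?_
  intro ω ω'
  by_cases hω : ω ∈ Γ
  · by_cases hω' : ω' ∈ Γ
    · obtain ⟨y0, hy0, he⟩ := h.tr ω hω ω' hω'
      exact ⟨y0, B5_nrm h hy0, fun y _ => by rw [he]⟩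
    · obtain ⟨y0, hy0, he⟩ := h.tr ω hω _ hΓ0
      refine ⟨n0⁻¹ * y0, mul_mem (inv_mem hn0) (B5_nrm h hy0), fun y hy => ?_⟩
      have h1 : (n0⁻¹ * y0) • ω = ω0 := by rw [mul_smul, he, inv_smul_smul]
      rw [h1]
      exact hF' ω0 hω0 ω' hω' y hy
  · by_cases hω' : ω' ∈ Γ
    · obtain ⟨y0, hy0, he⟩ := h.tr _ hΓ0 ω' hω'
      have hN : y0 * n0 ∈ Subgroup.normalizer (P0 : Set G) := mul_mem (B5_nrm h hy0) hn0
      refine ⟨y0 * n0, hN, fun y hy => ?_⟩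
      have h1 : (y0 * n0) • ω0 = ω' := by rw [mul_smul, he]
      generalize y0 * n0 = n at hN h1
      have hc : n⁻¹ * y * n ∈ P0 := by
        have h2 := (Subgroup.mem_normalizer_iff.mp (inv_mem hN) y).mp hy
        rwa [inv_inv] at h2
      have key : ∀ a : Ω, (y • n • a = n • a ↔ (n⁻¹ * y * n) • a = a) := by
        intro a
        rw [mul_smul, mul_smul, inv_smul_eq_iff]
      rw [← h1, key, key]
      exact hF' ω hω ω0 hω0 _ hc
    · exact ⟨1, one_mem _, fun y hy => by rw [one_smul]; exact hF' ω hω ω' hω' y hy⟩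

end Cfsg.Agent.El2
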