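import Cfsg.Agent.El2.Cov

set_option autoImplicit false

namespace Cfsg.Agent.El2

open MulAction

variable {G Ω : Type*} [Group G] [Finite G] [MulAction G Ω] [Finite Ω] {p q : ℕ} [Fact p.Prime]
  {P : Sylow p G} {P0 : Subgroup G} {Γ : Set Ω}

omit [Finite G] [Finite Ω] in
theorem LN_conj {E : Subgroup G} {n : G} (hn : n ∈ Subgroup.normalizer (E : Set G)) {a b : Ω}
    (h : a ∈ orbit E b) : n • a ∈ orbit E (n • b) := by
  obtain ⟨e, rfl⟩ := h
  refine ⟨⟨n * e * n⁻¹, (Subgroup.mem_normalizer_iff.1 hn e).1 e.2⟩, ?_⟩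
  change (n * e * n⁻¹) • n • b = n • (e : G) • b
  simp [mul_smul]

omit [Finite G] [Finite Ω] in
theorem LN_act (E : Subgroup G) :
    ∃ _ : MulAction (Subgroup.normalizer (E : Set G)) (orbitRel.Quotient E Ω),
      ∀ (n : Subgroup.normalizer (E : Set G)) (ω : Ω),
        n • (Quotient.mk'' ω : orbitRel.Quotient E Ω) = Quotient.mk'' ((n : G) • ω) :=
  ⟨{ smul := fun n => Quotient.map' (fun ω => (n : G) • ω) fun _ _ h => LN_conj n.2 h
     one_smul := fun o => Quotient.inductionOn' o fun ω => congrArg Quotient.mk'' (one_smul G ω)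
     mul_smul := fun a b o => Quotient.inductionOn' o fun ω =>
       congrArg Quotient.mk'' (mul_smul (a : G) (b : G) ω) }, fun _ _ => rfl⟩

omit [Finite G] [Fact p.Prime] in
theorem LN_card (E : Subgroup G) (ho : ∀ ω : Ω, Nat.card (orbit E ω) = p) :
    Nat.card Ω = Nat.card (orbitRel.Quotient E Ω) * p := by
  have := Fintype.ofFinite (orbitRel.Quotient E Ω)
  rw [Nat.card_congr (selfEquivSigmaOrbits E Ω), Nat.card_sigma, Finset.sum_congr rfl fun o _ => ho o.out]
  simp

theorem LN_fix (h : El G Ω p q) {E : Subgroup G} (hE : IsPGroup p E)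
    (ho : ∀ ω : Ω, Nat.card (orbit E ω) = p) (h2 : p < 2 * q) {s : G}
    (hs : s ∈ Subgroup.normalizer (E : Set G)) {k : ℕ} (hk : s ^ q ^ k = 1)
    (hf : ∀ ω : Ω, s • ω ∈ orbit E ω) (ω : Ω) : s • ω = ω := by
  classical
  have := Fact.mk h.hq
  have := Fintype.ofFinite (orbit E ω)
  let f : Function.End (orbit E ω) := fun x => ⟨s • (x : Ω), (orbit_eq_iff.2 x.2).le (hf x)⟩
  have fp : ∀ (i : ℕ) (x : orbit E ω), ((f ^ i) x : Ω) = s ^ i • (x : Ω) := fun i => by
    induction i with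
    | zero => intro x; simp; rfl
    | succ i ih =>
      intro x
      rw [pow_succ', pow_succ', mul_smul, ← ih]
      rfl
  have hm := Equiv.Perm.card_fixedPoints_modEq (f := f) (p := q) (n := k)
    (funext fun x => Subtype.ext (by rw [fp, hk, one_smul]; rfl))
  rw [← Nat.card_eq_fintype_card, ho] at hm
  have q3 := h.q3
  have qp := h.qp
  have h1 : 1 < Fintype.card f.fixedPoints := by
    by_contra hc
    rcases (show Fintype.card f.fixedPoints = 0 ∨ Fintype.card f.fixedPoints = 1 by omega) with e | e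
    · rw [e] at hm
      have := (Nat.prime_dvd_prime_iff_eq h.hq h.hp).1 ((Nat.modEq_zero_iff_dvd).1 hm)
      omega
    · rw [e] at hm
      obtain ⟨c, hc⟩ := (Nat.modEq_iff_dvd' h.hp.one_lt.le).1 hm.symm
      have po := h.hp.eq_two_or_odd
      have qo := h.hq.eq_two_or_odd
      rcases c with _ | _ | c
      · omega
      · omega
      · have : q * 2 ≤ q * (c + 1 + 1) := Nat.mul_le_mul_left q (by omega)
        omega
  obtain ⟨⟨d, hd⟩, ⟨d', hd'⟩, ne⟩ := Fintype.exists_pair_of_one_lt_card h1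
  replace hd : s • (d : Ω) = d := congrArg Subtype.val hd
  replace hd' : s • (d' : Ω) = d' := congrArg Subtype.val hd'
  have od : orbit E (d : Ω) = orbit E ω := orbit_eq_iff.2 d.2
  obtain ⟨e, he⟩ : (d' : Ω) ∈ orbit E (d : Ω) := od.ge d'.2
  obtain ⟨w, hw⟩ : ω ∈ orbit E (d : Ω) := od.ge (mem_orbit_self ω)
  change (e : G) • (d : Ω) = d' at he
  change (w : G) • (d : Ω) = ω at hw
  obtain ⟨-, s2, -, s4⟩ := small_pt h.hp hE (d : Ω) (ho _).le
  obtain ⟨i, hi⟩ := s4 e e.2 (fun k => ne (Subtype.ext (Subtype.ext (k.symm.trans he)))) w w.2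
  have e'E : s * e * s⁻¹ ∈ E := (Subgroup.mem_normalizer_iff.1 hs e).1 e.2
  have di : s⁻¹ • (d : Ω) = d := inv_smul_eq_iff.2 hd.symm
  have e1 : (s * e * s⁻¹) • (d : Ω) = (e : G) • (d : Ω) := by
    rw [mul_smul, mul_smul, di, he, hd']
  have e2 : ∀ j : ℕ, (s * e * s⁻¹) ^ j • (d : Ω) = (e : G) ^ j • (d : Ω) := fun j => by
    induction j with
    | zero => simp
    | succ j ih =>
      rw [pow_succ, mul_smul, e1, s2 _ (pow_mem e'E j) _ e.2, ih, pow_succ', mul_smul]
  have e3 := e2 i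
  rw [conj_pow, mul_smul, mul_smul, di] at e3
  rw [← hw, hi, e3]

theorem El.lemN (h : El G Ω p q) (E : Subgroup G) (hE : IsPGroup p E)
    (ho : ∀ ω : Ω, Nat.card (orbit E ω) = p) (h2 : p < 2 * q)
    (ht : ∀ ω ω' : Ω, ∃ n ∈ Subgroup.normalizer (E : Set G), n • ω = ω') : False := by
  classical
  have := Fact.mk h.hq
  have q3 := h.q3
  obtain ⟨act, ha⟩ := LN_act (Ω := Ω) E
  have cQ : Nat.card (orbitRel.Quotient E Ω) = 2 * q := by
    refine Nat.eq_of_mul_eq_mul_right h.hp.pos ?_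
    rw [← LN_card E ho, h.card]
    ring
  have tr : IsPretransitive (Subgroup.normalizer (E : Set G)) (orbitRel.Quotient E Ω) :=
    ⟨fun o o' => Quotient.inductionOn₂' o o' fun ω ω' => by
      obtain ⟨n, hn, e⟩ := ht ω ω'
      exact ⟨⟨n, hn⟩, by rw [ha, e]⟩⟩
  obtain ⟨R⟩ : Nonempty (Sylow q (Subgroup.normalizer (E : Set G))) := inferInstance
  have nf : ∀ o : orbitRel.Quotient E Ω, ¬ (R : Subgroup (Subgroup.normalizer (E : Set G))) ≤
      stabilizer (Subgroup.normalizer (E : Set G)) o := fun o k => by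
    have := Subgroup.index_dvd_of_le k
    rw [index_stabilizer_of_transitive, cQ] at this
    exact R.not_dvd_index ((Dvd.intro_left 2 rfl).trans this)
  have oq : ∀ o : orbitRel.Quotient E Ω,
      Nat.card (orbit (R : Subgroup (Subgroup.normalizer (E : Set G))) o) = q := fun o => by
    obtain ⟨k, hk⟩ := R.isPGroup'.card_orbit o
    have le : Nat.card (orbit (R : Subgroup (Subgroup.normalizer (E : Set G))) o) ≤ 2 * q :=
      cQ ▸ Nat.card_le_card_of_injective _ Subtype.val_injective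
    rw [hk] at le ⊢
    rcases k with _ | _ | k
    · refine absurd (fun r hr => ?_) (nf o)
      have := (Nat.card_eq_one_iff_unique.1 hk).1
      exact congrArg Subtype.val (Subsingleton.elim
        (⟨_, mem_orbit o (⟨r, hr⟩ : (R : Subgroup (Subgroup.normalizer (E : Set G))))⟩ :
          orbit (R : Subgroup (Subgroup.normalizer (E : Set G))) o) ⟨o, mem_orbit_self o⟩)
    · simp
    · have : q ^ 2 ≤ q ^ (k + 1 + 1) := Nat.pow_le_pow_right (by omega) (by omega)
      nlinarith
  obtain ⟨o₁⟩ : Nonempty (orbitRel.Quotient E Ω) := (Nat.card_pos_iff.1 (by omega)).1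
  obtain ⟨o₂, h₂⟩ : ∃ o, o ∉ orbit (R : Subgroup (Subgroup.normalizer (E : Set G))) o₁ := by
    by_contra! hc
    have := oq o₁
    rw [Set.eq_univ_of_forall hc, Nat.card_univ] at this
    omega
  have un : orbit (R : Subgroup (Subgroup.normalizer (E : Set G))) o₁ ∪
      orbit (R : Subgroup (Subgroup.normalizer (E : Set G))) o₂ = Set.univ := by
    refine Set.eq_of_subset_of_ncard_le (Set.subset_univ _) ?_
    rw [Set.ncard_union_eq, Set.ncard_univ, cQ, ← Nat.card_coe_set_eq, ← Nat.card_coe_set_eq, oq, oq]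
    · omega
    · refine Set.disjoint_left.2 fun o k1 k2 => h₂ ?_
      rw [← orbit_eq_iff.2 k1, orbit_eq_iff.2 k2]
      exact mem_orbit_self _
  obtain ⟨y, hy, hA⟩ := cover h.hq R.isPGroup'
    {stabilizer (Subgroup.normalizer (E : Set G)) o₁, stabilizer (Subgroup.normalizer (E : Set G)) o₂}
    (Finset.card_le_two.trans (by omega)) (by simp [nf])
  have mv : ∀ o : orbitRel.Quotient E Ω, y • o ≠ o := fun o k => by
    have k' := (small_pt h.hq R.isPGroup' o (oq o).le).1 y hy
    rcases (show o ∈ _ ∪ _ from un ▸ Set.mem_univ o) with ⟨r, hr⟩ | ⟨r, hr⟩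
    · have := k' _ (inv_mem r.2) k
      rw [← hr] at this
      exact hA (stabilizer _ o₁) (by simp) (by simpa [Subgroup.smul_def] using this)
    · have := k' _ (inv_mem r.2) k
      rw [← hr] at this
      exact hA (stabilizer _ o₂) (by simp) (by simpa [Subgroup.smul_def] using this)
  obtain ⟨k, hk⟩ := R.isPGroup' ⟨y, hy⟩
  have hk' : (y : G) ^ q ^ k = 1 := congrArg (fun x => ((x : Subgroup.normalizer (E : Set G)) : G))
    (congrArg Subtype.val hk)
  have s1 : (y : G) ^ q = 1 := h.faith _ (LN_fix h hE ho h2 (pow_mem y.2 q) (k := k)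
    (by rw [← pow_mul, mul_comm, pow_mul, hk', one_pow]) fun ω => by
      have := (small_pt h.hq R.isPGroup' (Quotient.mk'' ω : orbitRel.Quotient E Ω) (oq _).le).2.2.1 y hy
      rw [ha] at this
      exact Quotient.exact' this)
  have y1 : (y : G) ≠ 1 := fun e => mv o₁ (by rw [show y = 1 from Subtype.ext e, one_smul])
  obtain ⟨ω, hω⟩ := h.elus y (by rw [orderOf_eq_prime s1 y1]; exact h.hq)
  exact mv (Quotient.mk'' ω) (by rw [ha, hω])

end Cfsg.Agent.El2
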