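import Cfsg.Agent.El2.Cov
import Cfsg.Agent.El2.LN

set_option autoImplicit false

namespace Cfsg.Agent.El2

open MulAction

variable {G Ω : Type*} [Group G] [Finite G] [MulAction G Ω] [Finite Ω] {p q : ℕ} [Fact p.Prime]
  {P : Sylow p G} {P0 : Subgroup G} {Γ : Set Ω}

omit [Finite G] [Finite Ω] in
theorem LK_ext {E : Subgroup G} {a b : Ω} :
    E ⊓ stabilizer G a = E ⊓ stabilizer G b ↔ ∀ y ∈ E, (y • a = a ↔ y • b = b) := by
  constructor
  · intro h y hy
    have h1 : y ∈ E ⊓ stabilizer G a ↔ y ∈ E ⊓ stabilizer G b := by rw [h]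
    simpa [Subgroup.mem_inf, hy] using h1
  · intro h
    ext y
    simp only [Subgroup.mem_inf, mem_stabilizer_iff]
    exact ⟨fun o => ⟨o.1, (h y o.1).1 o.2⟩, fun o => ⟨o.1, (h y o.1).2 o.2⟩⟩

omit [Finite G] [Finite Ω] in
theorem LK_conj {E : Subgroup G} {n : G} (hn : n ∈ Subgroup.normalizer (E : Set G)) {a b : Ω}
    (h : E ⊓ stabilizer G a = E ⊓ stabilizer G b) :
    E ⊓ stabilizer G (n • a) = E ⊓ stabilizer G (n • b) := by
  rw [LK_ext] at h ⊢
  intro y hy
  have h1 : n⁻¹ * y * n ∈ E := by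
    have := (Subgroup.mem_normalizer_iff.1 (inv_mem hn) y).1 hy
    simpa using this
  have e : ∀ c : Ω, (y • n • c = n • c ↔ (n⁻¹ * y * n) • c = c) := fun c => by
    rw [mul_smul, mul_smul, inv_smul_eq_iff]
  rw [e, e]
  exact h _ h1

theorem El.lemK (h : El G Ω p q) (E : Subgroup G) (hE : IsPGroup p E)
    (ho : ∀ ω : Ω, Nat.card (orbit E ω) = p)
    (hk : ∀ ω ω' : Ω, ∃ n ∈ Subgroup.normalizer (E : Set G),
      ∀ y ∈ E, (y • n • ω = n • ω ↔ y • ω' = ω')) : False := by
  classical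
  have hp := h.hp
  have hq := h.hq
  have hqp := h.qp
  have := Fintype.ofFinite Ω
  have hne : Nonempty Ω := by
    have : Nat.card Ω ≠ 0 := by
      rw [h.card]
      exact Nat.mul_ne_zero (Nat.mul_ne_zero two_ne_zero hp.ne_zero) hq.ne_zero
    exact (Nat.card_ne_zero.1 this).1
  obtain ⟨ω0⟩ := hne
  have sp := fun ω => small_pt hp hE ω (ho ω).le
  have fx : ∀ y ∈ E, ∃ ω : Ω, y • ω = ω := by
    intro y hy
    by_cases h1 : y = 1
    · exact ⟨ω0, by rw [h1, one_smul]⟩
    · have e : y ^ p = 1 := h.faith _ fun ω => (sp ω).2.2.1 y hy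
      exact h.elus y (by rw [orderOf_eq_prime e h1]; exact hp)
  set K : Ω → Subgroup G := fun ω => E ⊓ stabilizer G ω with hK
  set s : Finset (Subgroup G) := Finset.univ.image K with hs
  have hs1 : p < s.card := by
    by_contra hc
    obtain ⟨y, hy, hy'⟩ := cover hp hE s (not_lt.1 hc) (by
      intro A hA hle
      obtain ⟨ω, -, rfl⟩ := Finset.mem_image.1 hA
      have e : orbit E ω = {ω} := by
        ext x
        constructor
        · rintro ⟨e, rfl⟩
          exact (hle e.2).2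
        · rintro rfl
          exact mem_orbit_self _
      have := ho ω
      rw [e] at this
      simp at this
      exact hp.one_lt.ne this)
    obtain ⟨ω, hω⟩ := fx y hy
    exact hy' (K ω) (Finset.mem_image_of_mem _ (Finset.mem_univ _)) ⟨hy, hω⟩
  set F : Ω → Finset Ω := fun ω => Finset.univ.filter fun x => K x = K ω with hF
  have hle : ∀ ω ω', (F ω).card ≤ (F ω').card := by
    intro ω ω'
    obtain ⟨n, hn, hn'⟩ := hk ω ω'
    refine Finset.card_le_card_of_injOn (fun x => n • x) ?_ fun a _ b _ e => MulAction.injective n e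
    intro x hx
    have hx' : K x = K ω := (Finset.mem_filter.1 hx).2
    exact Finset.mem_filter.2 ⟨Finset.mem_univ _, (LK_conj hn hx').trans (LK_ext.2 hn')⟩
  have hsub : ∀ ω, orbit E ω ⊆ (F ω : Set Ω) := by
    rintro ω x ⟨e, rfl⟩
    refine Finset.mem_filter.2 ⟨Finset.mem_univ _, LK_ext.2 fun y hy => ⟨fun o => ?_, fun o => ?_⟩⟩
    · have := (sp ((e : G) • ω)).1 y hy _ (inv_mem e.2) o
      simpa using this
    · exact (sp ω).1 y hy _ e.2 o
  have hpf : p ≤ (F ω0).card := by
    have := Set.ncard_le_ncard (hsub ω0)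
    rwa [Set.ncard_coe_finset, ← Nat.card_coe_set_eq, ho] at this
  have hsum : s.card * (F ω0).card = 2 * p * q := by
    rw [← h.card, Nat.card_eq_fintype_card, ← Finset.card_univ,
      Finset.card_eq_sum_card_image K Finset.univ, ← smul_eq_mul, ← Finset.sum_const]
    refine Finset.sum_congr rfl fun A hA => ?_
    obtain ⟨ω, -, rfl⟩ := Finset.mem_image.1 hA
    exact le_antisymm (hle _ _) (hle _ _)
  have hd : p ∣ (F ω0).card := by
    have : p ∣ s.card * (F ω0).card := ⟨2 * q, by rw [hsum]; ring⟩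
    refine ((Nat.Prime.dvd_mul hp).1 this).resolve_left ?_
    rintro ⟨c, hc⟩
    have c2 : 2 ≤ c := by
      by_contra h2
      have : c ≤ 1 := by omega
      have := Nat.mul_le_mul_left p this
      omega
    rw [hc] at hsum
    have h3 : p * 2 * p ≤ p * c * (F ω0).card :=
      Nat.mul_le_mul (Nat.mul_le_mul_left p c2) hpf
    have h4 : 2 * p * q < 2 * p * p :=
      Nat.mul_lt_mul_of_pos_left hqp (Nat.mul_pos two_pos hp.pos)
    nlinarith
  obtain ⟨m, hm⟩ := hd
  have hsm : s.card * m = 2 * q := by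
    rw [hm] at hsum
    exact Nat.eq_of_mul_eq_mul_left hp.pos (by rw [← mul_assoc, mul_comm p, mul_assoc, hsum]; ring)
  have m1 : m = 1 := by
    rcases m with _ | _ | m
    · have := hq.pos
      omega
    · rfl
    · nlinarith
  rw [m1, mul_one] at hm hsm
  refine h.lemN E hE ho (by omega) fun ω ω' => ?_
  obtain ⟨n, hn, hn'⟩ := hk ω ω'
  have e : orbit E ω' = (F ω' : Set Ω) := by
    refine Set.eq_of_subset_of_ncard_le (hsub ω') ?_
    rw [Set.ncard_coe_finset, ← Nat.card_coe_set_eq, ho, ← hm]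
    exact hle _ _
  have hmem : n • ω ∈ orbit E ω' := by
    rw [e]
    exact Finset.mem_filter.2 ⟨Finset.mem_univ _, LK_ext.2 hn'⟩
  obtain ⟨y, hy⟩ := hmem
  refine ⟨(y : G)⁻¹ * n, mul_mem (Subgroup.le_normalizer (inv_mem y.2)) hn, ?_⟩
  rw [mul_smul, inv_smul_eq_iff]
  exact hy.symm

end Cfsg.Agent.El2
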