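import Cfsg.Agent.El2.Defs

set_option autoImplicit false

namespace Cfsg.Agent.El2

open MulAction

variable {G Ω : Type*} [Group G] [Finite G] [MulAction G Ω] [Finite Ω] {p q : ℕ} [Fact p.Prime]
  {P : Sylow p G} {P0 : Subgroup G} {Γ : Set Ω}

omit [Finite G] [Finite Ω] in
theorem St_rel (E : Subgroup G) (ω : Ω) :
    (stabilizer G ω).relIndex E = Nat.card (orbit E ω) := by
  rw [Nat.card_coe_set_eq, ← index_stabilizer]
  rfl

omit [Finite G] [Finite Ω] [Fact p.Prime] in
theorem St_idx (h : El G Ω p q) (ω : Ω) : (stabilizer G ω).index = 2 * p * q := by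
  have := h.trans
  rw [index_stabilizer_of_transitive, h.card]

theorem El.orb (h : El G Ω p q) (P : Sylow p G) (ω : Ω) :
    Nat.card (orbit (P : Subgroup G) ω) = p ∨ Nat.card (orbit (P : Subgroup G) ω) = p ^ 2 := by
  obtain ⟨n, hn⟩ := P.2.card_orbit ω
  have le : Nat.card (orbit (P : Subgroup G) ω) ≤ 2 * p * q := by
    rw [← h.card]; exact Nat.card_le_card_of_injective _ Subtype.val_injective
  have n0 : n ≠ 0 := by
    rintro rfl
    rw [pow_zero, ← St_rel, Subgroup.relIndex_eq_one] at hn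
    have := Subgroup.index_dvd_of_le hn
    rw [St_idx h] at this
    exact P.not_dvd_index (Dvd.dvd.trans ⟨2 * q, by ring⟩ this)
  have n3 : n < 3 := by
    by_contra c
    have h1 : p ^ 3 ≤ p ^ n := Nat.pow_le_pow_right h.hp.pos (by omega)
    have h2 := h.qp
    have h3 := h.q3
    have h4 : 2 * p * q < p ^ 3 := by
      calc 2 * p * q < 2 * p * p := Nat.mul_lt_mul_of_pos_left h2 (by omega)
        _ ≤ p * p * p := Nat.mul_le_mul_right _ (Nat.mul_le_mul_right _ (by omega))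
        _ = p ^ 3 := by ring
    omega
  rw [hn]
  interval_cases n
  · exact absurd rfl n0
  · exact .inl (pow_one p)
  · exact .inr rfl

theorem El.st (h : El G Ω p q) (P : Sylow p G) (ω : Ω) (A : Subgroup G) (hA : IsPGroup p A)
    (hle : A ≤ stabilizer G ω) (ω' : Ω) (ho : Nat.card (orbit (P : Subgroup G) ω') = p) :
    ∃ g : G, g • ω' = ω ∧ ∀ a ∈ A, g⁻¹ * a * g ∈ (P : Subgroup G) ⊓ stabilizer G ω' := by
  have := h.trans
  obtain ⟨g0, hg0⟩ := exists_smul_eq G ω' ω
  have e1 := Subgroup.relIndex_mul_index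
    (inf_le_left : (P : Subgroup G) ⊓ stabilizer G ω' ≤ (P : Subgroup G))
  have e2 := Subgroup.relIndex_mul_index
    (inf_le_right : (P : Subgroup G) ⊓ stabilizer G ω' ≤ stabilizer G ω')
  rw [Subgroup.inf_relIndex_left, St_rel, ho] at e1
  rw [Subgroup.inf_relIndex_right, St_idx h, ← e1] at e2
  have nd : ¬ p ∣ ((P : Subgroup G).subgroupOf (stabilizer G ω')).index := fun c => by
    refine P.not_dvd_index ?_
    have e3 : (P : Subgroup G).index =
        (P : Subgroup G).relIndex (stabilizer G ω') * (2 * q) :=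
      Nat.eq_of_mul_eq_mul_left h.hp.pos (by rw [← e2]; ring)
    rw [e3]
    exact Dvd.dvd.mul_right c _
  let R : Sylow p (stabilizer G ω') := (P.2.comap_subtype (K := stabilizer G ω')).toSylow nd
  have hB : IsPGroup p ((A.map (MulAut.conj g0⁻¹).toMonoidHom).subgroupOf (stabilizer G ω')) :=
    (hA.map _).comap_subtype
  obtain ⟨Q, hQ⟩ := hB.exists_le_sylow
  obtain ⟨s, hs⟩ := exists_smul_eq (stabilizer G ω') Q R
  refine ⟨g0 * (s : G)⁻¹, ?_, fun a ha => ?_⟩
  · rw [mul_smul, show (s : G)⁻¹ • ω' = ω' from (s⁻¹).2, hg0]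
  · have hb : g0⁻¹ * a * g0 ∈ stabilizer G ω' := by
      rw [mem_stabilizer_iff, mul_smul, mul_smul, hg0, mem_stabilizer_iff.1 (hle ha), ← hg0,
        inv_smul_smul]
    have h1 : (⟨_, hb⟩ : stabilizer G ω') ∈ (Q : Subgroup (stabilizer G ω')) :=
      hQ ⟨a, ha, by simp⟩
    have h2 : s * ⟨_, hb⟩ * s⁻¹ ∈ (R : Subgroup (stabilizer G ω')) := by
      rw [← hs, Sylow.coe_subgroup_smul]
      exact Subgroup.smul_mem_pointwise_smul _ (MulAut.conj s) _ h1
    have e : (g0 * (s : G)⁻¹)⁻¹ * a * (g0 * (s : G)⁻¹) =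
        ((s * ⟨_, hb⟩ * s⁻¹ : stabilizer G ω') : G) := by
      simp only [Subgroup.coe_mul, Subgroup.coe_inv]; group
    rw [e]
    exact ⟨h2, (s * ⟨_, hb⟩ * s⁻¹).2⟩

end Cfsg.Agent.El2
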