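import Cfsg.Agent.El2.Cov
import Cfsg.Agent.El2.St
import Cfsg.Agent.El2.LK

set_option autoImplicit false

namespace Cfsg.Agent.El2

open MulAction

variable {G Ω : Type*} [Group G] [Finite G] [MulAction G Ω] [Finite Ω] {p q : ℕ} [Fact p.Prime]
  {P : Sylow p G} {P0 : Subgroup G} {Γ : Set Ω}

theorem El.c0 (h : El G Ω p q) (P : Sylow p G)
    (ho : ∀ ω : Ω, Nat.card (orbit (P : Subgroup G) ω) = p) : False := by
  have sp := fun ω => small_pt h.hp P.isPGroup' ω (ho ω).le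
  have ab : ∀ x ∈ (P : Subgroup G), ∀ y ∈ (P : Subgroup G), x * y = y * x := fun x hx y hy =>
    (inv_mul_eq_one.1 (h.faith ((x * y)⁻¹ * (y * x)) fun ω => by
      rw [mul_smul, inv_smul_eq_iff, mul_smul, mul_smul, (sp ω).2.1 x hx y hy]))
  refine h.lemK P P.isPGroup' ho fun ω ω' => ?_
  obtain ⟨g, hg, hA⟩ := h.st P ω' ((P : Subgroup G) ⊓ stabilizer G ω')
    (P.isPGroup'.to_le inf_le_left) inf_le_right ω (ho ω)
  have h1 : (P : Subgroup G) ≤
      Subgroup.centralizer (((P : Subgroup G) ⊓ stabilizer G ω' : Subgroup G) : Set G) :=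
    fun y hy a ha => ab a ha.1 y hy
  have h2 : ((g • P : Sylow p G) : Subgroup G) ≤
      Subgroup.centralizer (((P : Subgroup G) ⊓ stabilizer G ω' : Subgroup G) : Set G) := by
    rintro _ ⟨y, hy, rfl⟩ a ha
    have := ab _ (hA a ha).1 y hy
    change a * (g * y * g⁻¹) = g * y * g⁻¹ * a
    calc _ = g * (g⁻¹ * a * g * y) * g⁻¹ := by group
      _ = _ := by rw [this]; group
  obtain ⟨c, hc⟩ := exists_smul_eq (Subgroup.centralizer
    (((P : Subgroup G) ⊓ stabilizer G ω' : Subgroup G) : Set G)) ((g • P).subtype h2) (P.subtype h1)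
  simp_rw [Sylow.smul_subtype, Subgroup.smul_def, smul_smul] at hc
  have key : ∀ y ∈ (P : Subgroup G), y • ω' = ω' → y • ((c : G) * g) • ω = ((c : G) * g) • ω :=
    fun y hy e => by rw [mul_smul, hg, ← mul_smul, c.2 y ⟨hy, e⟩, mul_smul, e]
  refine ⟨c * g, Sylow.smul_eq_iff_mem_normalizer.mp (Sylow.subtype_injective hc), fun y hy =>
    ⟨fun e => ?_, key y hy⟩⟩
  by_contra ne
  generalize ((c : G) * g) • ω = δ at key e
  have all : ∀ w ∈ (P : Subgroup G), w • δ = δ := fun w hw => by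
    obtain ⟨i, hi⟩ := (sp ω').2.2.2 y hy ne w hw
    have h3 := key ((y ^ i)⁻¹ * w) (mul_mem (inv_mem (pow_mem hy i)) hw)
      (by rw [mul_smul, inv_smul_eq_iff, hi])
    rw [mul_smul, inv_smul_eq_iff] at h3
    exact h3.trans (pow_mem (show y ∈ stabilizer G δ from e) i)
  have h4 := ho δ
  have h5 : orbit (P : Subgroup G) δ = {δ} :=
    Set.eq_singleton_iff_unique_mem.2 ⟨mem_orbit_self δ, by rintro _ ⟨w, rfl⟩; exact all w w.2⟩
  rw [h5, Nat.card_unique] at h4
  exact h.hp.one_lt.ne h4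

end Cfsg.Agent.El2
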