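import Cfsg.Agent.El2.Defs

set_option autoImplicit false

namespace Cfsg.Agent.El2

open MulAction

variable {G Ω : Type*} [Group G] [Finite G] [MulAction G Ω] [Finite Ω] {p q : ℕ} [Fact p.Prime]
  {P : Sylow p G} {P0 : Subgroup G} {Γ : Set Ω}

theorem cov_le {r : ℕ} (hr : r.Prime) {U : Subgroup G} (hU : IsPGroup r U) (A : Subgroup G) (h : ¬ U ≤ A) :
    r * Nat.card (A.subgroupOf U) ≤ Nat.card U := by
  have := Fact.mk hr
  obtain ⟨n, e⟩ := hU.index (A.subgroupOf U)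
  have h1 : (A.subgroupOf U).index ≠ 1 := fun o =>
    h (Subgroup.subgroupOf_eq_top.1 (Subgroup.index_eq_one.1 o))
  have h2 : r ≤ (A.subgroupOf U).index := by
    rw [e] at h1 ⊢
    rcases n with _ | n
    · exact absurd (pow_zero r) h1
    · exact Nat.le_self_pow (Nat.succ_ne_zero n) r
  rw [← (A.subgroupOf U).card_mul_index, mul_comm]
  exact Nat.mul_le_mul_left _ h2

theorem cover {r : ℕ} (hr : r.Prime) {U : Subgroup G} (hU : IsPGroup r U)
    (s : Finset (Subgroup G)) (hs : s.card ≤ r) (hne : ∀ A ∈ s, ¬ U ≤ A) :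
    ∃ y ∈ U, ∀ A ∈ s, y ∉ A := by
  classical
  by_contra hc
  push Not at hc
  have := Fintype.ofFinite U
  let f : Subgroup G → Finset U := fun A => (Finset.univ.filter fun y : U => (y : G) ∈ A).erase 1
  have h1 : (Finset.univ : Finset U).erase 1 ⊆ s.biUnion f := fun y hy => by
    obtain ⟨A, m, o⟩ := hc y y.2
    exact Finset.mem_biUnion.2 ⟨A, m, Finset.mem_erase.2 ⟨(Finset.mem_erase.1 hy).1, by simpa using o⟩⟩
  have h2 : ∀ A ∈ s, r * ((f A).card + 1) ≤ Nat.card U := fun A m => by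
    refine le_of_eq_of_le ?_ (cov_le hr hU A (hne A m))
    rw [Finset.card_erase_add_one (by simp)]
    congr 1
    exact (Nat.subtype_card _ fun y => by simp [Subgroup.mem_subgroupOf]).symm
  have h3 := (Finset.card_le_card h1).trans Finset.card_biUnion_le
  rw [Finset.card_erase_of_mem (Finset.mem_univ _), Finset.card_univ, ← Nat.card_eq_fintype_card] at h3
  have h4 := Finset.sum_le_card_nsmul s _ _ h2
  rw [← Finset.mul_sum, Finset.sum_add_distrib, Finset.sum_const, smul_eq_mul, smul_eq_mul, mul_one] at h4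
  obtain ⟨A, m, -⟩ := hc 1 U.one_mem
  have h5 := h2 A m
  have h6 := Finset.card_pos.2 ⟨A, m⟩
  have h7 := hr.two_le
  generalize ∑ A ∈ s, (f A).card = t at *
  generalize Nat.card U = n at *
  generalize s.card = k at *
  have h8 : r ≤ n := le_trans (Nat.le_mul_of_pos_right _ (Nat.succ_pos _)) h5
  have h9 : n ≤ t + 1 := by omega
  obtain ⟨d, rfl⟩ := Nat.exists_eq_add_of_le hs
  rcases d with _ | d
  · have : t + k ≤ n := Nat.le_of_mul_le_mul_left h4 h6
    omega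
  · nlinarith

omit [Finite Ω] in
theorem small_pt {r : ℕ} (hr : r.Prime) {E : Subgroup G} (hE : IsPGroup r E) (ω : Ω)
    (ho : Nat.card (orbit E ω) ≤ r) :
    (∀ x ∈ E, ∀ y ∈ E, x • ω = ω → x • y • ω = y • ω) ∧
    (∀ x ∈ E, ∀ y ∈ E, x • y • ω = y • x • ω) ∧ (∀ x ∈ E, x ^ r • ω = ω) ∧
    (∀ c ∈ E, c • ω ≠ ω → ∀ w ∈ E, ∃ i : ℕ, w • ω = c ^ i • ω) := by
  have := Fact.mk hr
  obtain ⟨n, e⟩ := hE.index (stabilizer E ω)
  have hi : (stabilizer E ω).index ≤ r := by rwa [index_stabilizer, ← Nat.card_coe_set_eq]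
  have hn : n ≤ 1 := by
    rw [e] at hi
    exact (Nat.pow_le_pow_iff_right hr.one_lt).1 (by rwa [pow_one])
  have hd : (stabilizer E ω).index ∣ r := by
    rw [e]
    exact (pow_dvd_pow r hn).trans (by rw [pow_one])
  have hN : (stabilizer E ω).Normal := by
    rcases (Nat.dvd_prime hr).1 hd with o | o
    · rw [Subgroup.index_eq_one.1 o]
      infer_instance
    · obtain ⟨m, e2⟩ := hE.exists_card_eq
      refine Subgroup.normal_of_index_eq_minFac_card ?_
      have h3 := (stabilizer E ω).index_dvd_card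
      rw [o, e2] at h3
      rcases m with _ | m
      · exact absurd (Nat.dvd_one.1 h3) hr.one_lt.ne'
      · rw [o, e2, hr.pow_minFac (Nat.succ_ne_zero m)]
  have hq : ∀ x y : E, (x : E ⧸ stabilizer E ω) = y ↔ (x : G) • ω = (y : G) • ω := fun x y => by
    rw [QuotientGroup.eq, mem_stabilizer_iff, mul_smul, inv_smul_eq_iff, eq_comm]
    rfl
  have hc : IsCyclic (E ⧸ stabilizer E ω) := isCyclic_of_card_dvd_prime hd
  refine ⟨fun x hx y hy h => ?_, fun x hx y hy => ?_, fun x hx => ?_, fun c hc h w hw => ?_⟩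
  · have h1 : (⟨x, hx⟩ : E) ∈ stabilizer E ω := h
    have h2 : (y⁻¹ * x * y⁻¹⁻¹) • ω = ω := hN.conj_mem _ h1 (⟨y, hy⟩ : E)⁻¹
    rwa [inv_inv, mul_smul, mul_smul, inv_smul_eq_iff] at h2
  · rw [← mul_smul, ← mul_smul]
    refine (hq ((⟨x, hx⟩ : E) * (⟨y, hy⟩ : E)) ((⟨y, hy⟩ : E) * (⟨x, hx⟩ : E))).1 ?_
    rw [QuotientGroup.mk_mul, QuotientGroup.mk_mul]
    exact IsCyclic.commGroup.mul_comm ((⟨x, hx⟩ : E) : E ⧸ stabilizer E ω) (⟨y, hy⟩ : E)
  · have h1 : ((⟨x, hx⟩ : E) : E ⧸ stabilizer E ω) ^ r = 1 :=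
      orderOf_dvd_iff_pow_eq_one.1 ((orderOf_dvd_natCard _).trans hd)
    have := (hq ((⟨x, hx⟩ : E) ^ r) 1).1 (by rw [QuotientGroup.mk_pow]; exact h1)
    simpa using this
  · have h1 : ((⟨c, hc⟩ : E) : E ⧸ stabilizer E ω) ≠ 1 := fun o => h (by simpa using (hq ⟨c, hc⟩ 1).1 o)
    have h2 : Nat.card (E ⧸ stabilizer E ω) = r := by
      rcases (Nat.dvd_prime hr).1 hd with o | o
      · exact absurd ((Nat.card_eq_one_iff_unique.1 o).1.allEq _ _) h1
      · exact o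
    obtain ⟨i, e2⟩ := mem_powers_of_prime_card h2 h1 (g' := ((⟨w, hw⟩ : E) : E ⧸ stabilizer E ω))
    exact ⟨i, ((hq ((⟨c, hc⟩ : E) ^ i) ⟨w, hw⟩).1 (by rw [QuotientGroup.mk_pow]; exact e2)).symm⟩

end Cfsg.Agent.El2
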