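import Cfsg.Agent.El2.Defs

set_option autoImplicit false
set_option maxHeartbeats 400000

namespace Cfsg.Agent.El2

open MulAction Polynomial

variable {G Ω : Type*} [Group G] [Finite G] [MulAction G Ω] [Finite Ω] {p q : ℕ} [Fact p.Prime]
  {P : Sylow p G} {P0 : Subgroup G} {Γ : Set Ω}

set_option linter.unusedSectionVars false in
theorem cyc_irr [DecidableEq Ω] (c : G) (b : Ω) (k : ℕ) (hc : c ^ p ^ (k + 1) • b = b)
    (S : Submodule ℚ (Ω → ℚ)) (hS : ∀ f ∈ S, (fun ω => f (c • ω)) ∈ S) (u : Ω → ℚ) (hu : u ∈ S)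
    (h0 : u ≠ 0) (hsup : ∀ ω, u ω ≠ 0 → ∃ i : ℕ, ω = c ^ i • b)
    (hfree : ∀ i : ℕ, c ^ i • b = b → p ^ (k + 1) ∣ i)
    (hsum : ∀ ω, ∑ i ∈ Finset.range p, u (c ^ (p ^ k * i) • ω) = 0) :
    (Pi.single b 1 - Pi.single (c ^ p ^ k • b) 1 : Ω → ℚ) ∈ S := by
  have hp : p.Prime := Fact.out
  have N0 : 0 < p ^ (k + 1) := pow_pos hp.pos _
  let T : Module.End ℚ (Ω → ℚ) := LinearMap.funLeft ℚ ℚ fun ω => c⁻¹ • ω
  have Tp : ∀ (i : ℕ) (f : Ω → ℚ) (ω : Ω), (T ^ i) f ω = f ((c ^ i)⁻¹ • ω) := fun i => by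
    induction i with
    | zero => intro f ω; simp
    | succ i ih =>
      intro f ω
      rw [pow_succ, Module.End.mul_apply, ih, pow_succ, mul_inv_rev, mul_smul]
      rfl
  have Te : ∀ i : ℕ, (T ^ i) (Pi.single b 1) = Pi.single (c ^ i • b) 1 := fun i => funext fun ω => by
    rw [Tp, Pi.single_apply, Pi.single_apply]
    exact if_congr inv_smul_eq_iff rfl rfl
  have Sp : ∀ (i : ℕ), ∀ f ∈ S, (fun ω => f (c ^ i • ω)) ∈ S := fun i => by
    induction i with
    | zero => intro f hf; simpa using hf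
    | succ i ih =>
      intro f hf
      have := hS _ (ih f hf)
      simpa only [pow_succ, mul_smul] using this
  have ST : S ≤ S.comap T := fun f hf => by
    have e : c⁻¹ = c ^ (orderOf c - 1) := by
      rw [inv_eq_iff_mul_eq_one, ← pow_succ', Nat.sub_add_cancel (orderOf_pos c), pow_orderOf_eq_one]
    have := Sp (orderOf c - 1) f hf
    rw [← e] at this
    exact this
  have inj0 : ∀ i j : ℕ, j < p ^ (k + 1) → i ≤ j → c ^ i • b = c ^ j • b → i = j := fun i j hj hij e => by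
    obtain ⟨d, rfl⟩ := Nat.exists_eq_add_of_le hij
    rw [pow_add, mul_smul, smul_left_cancel_iff] at e
    have := Nat.eq_zero_of_dvd_of_lt (hfree d e.symm) (by omega)
    omega
  have inj : ∀ i j : ℕ, i < p ^ (k + 1) → j < p ^ (k + 1) → c ^ i • b = c ^ j • b → i = j :=
    fun i j hi hj e => (le_total i j).elim (fun h => inj0 i j hj h e) fun h => (inj0 j i hi h e.symm).symm
  have red : ∀ i : ℕ, c ^ i • b = c ^ (i % p ^ (k + 1)) • b := fun i => by
    have : ∀ m : ℕ, (c ^ p ^ (k + 1)) ^ m • b = b := fun m => by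
      induction m with
      | zero => simp
      | succ m ih => rw [pow_succ, mul_smul, hc, ih]
    conv_lhs => rw [← Nat.mod_add_div i (p ^ (k + 1)), pow_add, pow_mul, mul_smul, this]
  have ev : ∀ (a : ℕ → ℚ) (j : ℕ), j < p ^ (k + 1) →
      (∑ i ∈ Finset.range (p ^ (k + 1)), a i • (Pi.single (c ^ i • b) 1 : Ω → ℚ)) (c ^ j • b) = a j :=
    fun a j hj => by
      rw [Finset.sum_apply, Finset.sum_eq_single j]
      · simp
      · intro i hi hij
        rw [Pi.smul_apply, Pi.single_eq_of_ne fun e => hij (inj i j (Finset.mem_range.1 hi) hj e.symm),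
          smul_zero]
      · exact fun h => absurd (Finset.mem_range.2 hj) h
  have L0 : ∀ r : ℚ[X], aeval T (r * (X ^ p ^ (k + 1) - 1)) (Pi.single b 1) = 0 := fun r => by
    rw [map_mul, Module.End.mul_apply, map_sub, map_pow, aeval_X, map_one, LinearMap.sub_apply, Te, hc,
      Module.End.one_apply, sub_self, map_zero]
  have mon : (X ^ p ^ (k + 1) - 1 : ℚ[X]).Monic := monic_X_pow_sub_C (1 : ℚ) N0.ne'
  have ann : ∀ r : ℚ[X], aeval T r (Pi.single b 1) = 0 → X ^ p ^ (k + 1) - 1 ∣ r := fun r hr => by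
    rw [← modByMonic_eq_zero_iff_dvd mon]
    have e := modByMonic_add_div r (X ^ p ^ (k + 1) - 1)
    have hd : (r %ₘ (X ^ p ^ (k + 1) - 1)).natDegree < p ^ (k + 1) := by
      have := natDegree_modByMonic_lt r mon fun e => by
        have := congrArg natDegree e
        rw [← C_1, natDegree_X_pow_sub_C, natDegree_C] at this
        omega
      rwa [← C_1, natDegree_X_pow_sub_C, C_1] at this
    rw [← e, map_add, LinearMap.add_apply, mul_comm, L0, add_zero, aeval_eq_sum_range' hd,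
      LinearMap.sum_apply] at hr
    simp only [LinearMap.smul_apply, Te] at hr
    ext j
    by_cases hj : j < p ^ (k + 1)
    · exact (ev (fun i => (r %ₘ (X ^ p ^ (k + 1) - 1)).coeff i) j hj).symm.trans (congrFun hr _)
    · exact coeff_eq_zero_of_natDegree_lt (by omega)
  obtain ⟨g, hg⟩ : ∃ g : ℚ[X], aeval T g (Pi.single b 1) = u := by
    refine ⟨∑ i ∈ Finset.range (p ^ (k + 1)), u (c ^ i • b) • X ^ i, ?_⟩
    simp only [map_sum, map_smul, map_pow, aeval_X, LinearMap.sum_apply, LinearMap.smul_apply, Te]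
    funext ω
    by_cases h : ∃ i : ℕ, ω = c ^ i • b
    · obtain ⟨i, rfl⟩ := h
      rw [red i, ev _ _ (Nat.mod_lt _ N0)]
    · rw [Finset.sum_apply, Finset.sum_eq_zero fun i _ => by
        rw [Pi.smul_apply, Pi.single_eq_of_ne fun e => h ⟨i, e⟩, smul_zero]]
      by_contra e
      exact h (hsup ω fun a => e a.symm)
  have fac := cyclotomic_prime_pow_mul_X_pow_sub_one ℚ p k
  have irr : Irreducible (cyclotomic (p ^ (k + 1)) ℚ) := cyclotomic.irreducible_rat N0
  have h1 : aeval T (cyclotomic (p ^ (k + 1)) ℚ * g) (Pi.single b 1) = 0 := by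
    rw [map_mul, Module.End.mul_apply, hg, cyclotomic_prime_pow_eq_geom_sum hp]
    simp only [map_sum, map_pow, aeval_X, LinearMap.sum_apply, ← pow_mul]
    funext ω
    rw [Finset.sum_apply, Pi.zero_apply, ← hsum ((c ^ (p ^ k * (p - 1)))⁻¹ • ω),
      ← Finset.sum_range_reflect]
    refine Finset.sum_congr rfl fun i hi => ?_
    obtain ⟨d, hd⟩ := Nat.exists_eq_add_of_le (Nat.le_sub_one_of_lt (Finset.mem_range.1 hi))
    rw [Tp, hd, Nat.add_sub_cancel_left, smul_smul, add_comm i, mul_add, pow_add, mul_inv_rev,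
      mul_inv_cancel_left]
  obtain ⟨g1, hg1⟩ := ann _ h1
  rw [← fac, mul_assoc] at hg1
  have e1 := mul_left_cancel₀ irr.ne_zero hg1
  have nd : ¬ cyclotomic (p ^ (k + 1)) ℚ ∣ g1 := by
    rintro ⟨g2, rfl⟩
    refine h0 (hg.symm.trans ?_)
    rw [← L0 g2, ← fac, e1]
    congr 2
    ring
  obtain ⟨a, h, hb⟩ := irr.coprime_iff_not_dvd.2 nd
  have e2 : (X ^ p ^ k - 1 : ℚ[X]) = a * (X ^ p ^ (k + 1) - 1) + h * g := by
    rw [← fac, e1]
    linear_combination (-(X ^ p ^ k - 1 : ℚ[X])) * hb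
  have e3 : aeval T (X ^ p ^ k - 1 : ℚ[X]) (Pi.single b 1) ∈ S := by
    rw [e2, map_add, LinearMap.add_apply, L0, zero_add, map_mul, Module.End.mul_apply, hg]
    exact aeval_apply_smul_mem_of_le_comap hu h T ST
  rw [map_sub, map_pow, aeval_X, map_one, LinearMap.sub_apply, Te, Module.End.one_apply] at e3
  simpa using S.neg_mem e3

end Cfsg.Agent.El2
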