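import Cfsg.Agent.El2.IrrA

set_option autoImplicit false

namespace Cfsg.Agent.El2

open MulAction

variable {G Ω : Type*} [Group G] [Finite G] [MulAction G Ω] [Finite Ω] {p q : ℕ} [Fact p.Prime]
  {P : Sylow p G} {P0 : Subgroup G} {Γ : Set Ω}

/-- an element normalising the cyclic Sylow subgroup and fixing `x ^ p` fixes `x` -/
theorem D1a_comm {x n : G} (ho : orderOf x = p ^ 2) (hP : (P : Subgroup G) = Subgroup.zpowers x)
    (hn : n ∈ Subgroup.normalizer ((P : Subgroup G) : Set G)) (hc : n * x ^ p = x ^ p * n) :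
    n * x = x * n := by
  have hp : p.Prime := Fact.out
  have hx : x ∈ (P : Subgroup G) := hP ▸ Subgroup.mem_zpowers x
  obtain ⟨k, hk⟩ : n * x * n⁻¹ ∈ Subgroup.zpowers x :=
    hP ▸ (Subgroup.mem_normalizer_iff.1 hn x).1 hx
  have hk' : n * x * n⁻¹ = x ^ k := hk.symm
  have h1 : x ^ ((k - 1) * p) = 1 := by
    have e : (x ^ k) ^ p = x ^ p := by rw [← hk', conj_pow, hc, mul_inv_cancel_right]
    rw [sub_mul, zpow_sub, zpow_mul, zpow_natCast, e, one_mul, zpow_natCast, mul_inv_cancel]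
  have h2 : (p : ℤ) ∣ k - 1 := by
    have := orderOf_dvd_iff_zpow_eq_one.2 h1
    rw [ho, Nat.cast_pow, sq] at this
    exact Int.dvd_of_mul_dvd_mul_right (by exact_mod_cast hp.ne_zero) this
  obtain ⟨j, hj⟩ := h2
  have hz : Commute n (x ^ (k - 1)) := by
    rw [hj, zpow_mul, zpow_natCast]
    exact (show Commute n (x ^ p) from hc).zpow_right j
  have hzp : (x ^ (k - 1)) ^ p = 1 := by rw [← zpow_natCast, ← zpow_mul, h1]
  have h3 : n * x = x ^ (k - 1) * x * n := by
    rw [← zpow_add_one, sub_add_cancel, ← hk', inv_mul_cancel_right]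
  generalize x ^ (k - 1) = z at hz hzp h3
  have h4 : ∀ i : ℕ, n ^ i * x = z ^ i * x * n ^ i := fun i => by
    induction i with
    | zero => simp
    | succ i ih =>
      calc n ^ (i + 1) * x = n * (n ^ i * x) := by rw [pow_succ', mul_assoc]
        _ = n * z ^ i * x * n ^ i := by rw [ih]; group
        _ = z ^ i * (n * x) * n ^ i := by rw [(hz.pow_right i).eq]; group
        _ = _ := by rw [h3, pow_succ, pow_succ' n]; group
  obtain ⟨a, m, hm, e⟩ := Nat.exists_eq_pow_mul_and_not_dvd (orderOf_pos n).ne' p hp.ne_one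
  have h5 : IsPGroup p (Subgroup.zpowers (n ^ m)) := by
    rintro ⟨_, i, rfl⟩
    refine ⟨a, Subtype.ext ?_⟩
    show ((n ^ m) ^ i) ^ p ^ a = 1
    rw [← zpow_natCast, ← zpow_mul, mul_comm, zpow_mul, zpow_natCast, ← pow_mul, mul_comm, ← e,
      pow_orderOf_eq_one, one_zpow]
  have h6 : n ^ m ∈ Subgroup.zpowers x := by
    have : n ^ m ∈ Subgroup.zpowers (n ^ m) ⊓ (P : Subgroup G) :=
      h5.inf_normalizer_sylow P ▸ ⟨Subgroup.mem_zpowers _, pow_mem hn m⟩
    exact hP ▸ this.2
  have h7 : z ^ m = 1 := by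
    obtain ⟨i, hi⟩ := h6
    have c : n ^ m * x = x * n ^ m := by
      rw [← hi]; exact ((Commute.refl x).zpow_left i).eq
    have := h4 m
    rw [c] at this
    exact (mul_eq_right.1 (mul_right_cancel this).symm)
  have h8 : z = 1 := (pow_eq_one_iff_of_coprime ((Nat.Prime.coprime_iff_not_dvd hp).2 hm)).1
    ⟨hzp, h7⟩
  rw [h3, h8, one_mul]

theorem Thr.cent (h : Thr p q P P0 Γ) (hr : Reg (P : Subgroup G) Γ) :
    Subgroup.centralizer (P0 : Set G) = P := by
  have hp : p.Prime := Fact.out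
  obtain ⟨h0, x, hx, ho, hP, hP0⟩ := h.toTwo.reg_cyc hr
  have hab : ∀ a ∈ (P : Subgroup G), ∀ b ∈ (P : Subgroup G), a * b = b * a := by
    rw [hP]
    rintro _ ⟨i, rfl⟩ _ ⟨j, rfl⟩
    exact ((Commute.refl x).zpow_zpow i j).eq
  have hPC : (P : Subgroup G) ≤ Subgroup.centralizer (P0 : Set G) :=
    fun a ha b hb => hab b (h.le hb) a ha
  have hcP : Nat.card P = p ^ 2 := by rw [h.idx, h0, sq]
  generalize hC : Subgroup.centralizer (P0 : Set G) = C at hPC
  have hCN : C ≤ Subgroup.normalizer (P0 : Set G) := hC ▸ Subgroup.centralizer_le_normalizer _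
  have hB : Subgroup.normalizer ((P.subtype hPC : Subgroup C) : Set C) ≤
      Subgroup.centralizer ((P.subtype hPC : Subgroup C) : Set C) := fun n hn b hb => by
    rw [Sylow.coe_subtype, ← Subgroup.subgroupOf_normalizer_eq hPC, Subgroup.mem_subgroupOf] at hn
    have c : (n : G) * x = x * n := D1a_comm ho hP hn
      ((hC.symm ▸ n.2 : (n : G) ∈ Subgroup.centralizer (P0 : Set G)) _
        (hP0 ▸ Subgroup.mem_zpowers _)).symm
    obtain ⟨i, hi⟩ : (b : G) ∈ Subgroup.zpowers x := hP ▸ hb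
    refine Subtype.ext ?_
    show (b : G) * n = n * b
    rw [← hi]
    exact ((show Commute (n : G) x from c).zpow_right i).eq.symm
  have hK := MonoidHom.ker_transferSylow_isComplement' _ hB
  have hK' := MonoidHom.not_dvd_card_ker_transferSylow _ hB
  have hKn : (MonoidHom.transferSylow _ hB).ker.Normal := inferInstance
  generalize (MonoidHom.transferSylow _ hB).ker = K at hK hK' hKn
  have hi : K.index = p ^ 2 := by
    rw [hK.symm.index_eq_card, Sylow.coe_subtype,
      Nat.card_congr (Subgroup.subgroupOfEquivOfLe hPC).toEquiv, hcP]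
  have hfix : ∀ γ ∈ Γ, stabilizer C γ = K := fun γ hγ => by
    have e1 : orbit C γ = Γ := by
      ext ω
      constructor
      · rintro ⟨c, rfl⟩
        exact (h.ninv c (hCN c.2) γ).2 hγ
      · intro hω
        obtain ⟨y, hy, e⟩ := h.tr γ hγ ω hω
        exact ⟨⟨y, hPC hy⟩, e⟩
    have e2 : (stabilizer C γ).index = p ^ 2 := by rw [index_stabilizer, e1, h.cardΓ]
    have e3 : Nat.card (stabilizer C γ) = Nat.card K := by
      have a1 := (stabilizer C γ).card_mul_index
      have a2 := K.card_mul_index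
      rw [e2] at a1
      rw [hi, ← a1] at a2
      exact (Nat.eq_of_mul_eq_mul_right (pow_pos hp.pos 2) a2).symm
    refine Subgroup.eq_of_le_of_card_ge (fun s hs => ?_) e3.ge
    have b1 : s ^ p ^ 2 ∈ K := hi ▸ K.pow_index_mem s
    have b2 : (p ^ 2).Coprime (orderOf s) := Nat.Coprime.pow_left 2
      ((Nat.Prime.coprime_iff_not_dvd hp).2 fun d =>
        hK' (e3 ▸ d.trans ((stabilizer C γ).orderOf_dvd_natCard hs)))
    obtain ⟨m, e⟩ := exists_pow_eq_self_of_coprime b2
    rw [← e]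
    exact pow_mem b1 m
  have hbot : K = ⊥ := (Subgroup.eq_bot_iff_forall _).2 fun k hk =>
    Subtype.ext (h.lone k fun γ hγ => by
      have : k ∈ stabilizer C γ := (hfix γ hγ).symm ▸ hk
      exact this)
  rw [hbot, Subgroup.index_bot] at hi
  exact (Subgroup.eq_of_le_of_card_ge hPC (by rw [hi]; exact hcP.ge)).symm

end Cfsg.Agent.El2
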