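import Cfsg.Agent.El2.Defs

set_option autoImplicit false

namespace Cfsg.Agent.El2

open MulAction

variable {G Ω : Type*} [Group G] [Finite G] [MulAction G Ω] [Finite Ω] {p q : ℕ} [Fact p.Prime]
  {P : Sylow p G} {P0 : Subgroup G} {Γ : Set Ω}

omit [Finite Ω] in
theorem D1b_card (h : Thr p q P P0 Γ) (hr : Reg (P : Subgroup G) Γ) : Nat.card P0 = p := by
  obtain ⟨γ, hγ⟩ := h.ne
  have : (P : Subgroup G) ⊓ stabilizer G γ = ⊥ :=
    eq_bot_iff.2 fun y hy => Subgroup.mem_bot.2 (hr γ hγ y hy.1 hy.2)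
  rw [h.cardW γ hγ, this, Subgroup.card_bot, mul_one]

omit [Finite Ω] in
theorem D1b_N (h : Thr p q P P0 Γ) (hr : Reg (P : Subgroup G) Γ)
    (hC : Subgroup.centralizer (P0 : Set G) = P) :
    Nat.card (Subgroup.normalizer (P0 : Set G)) ≤ p * p * (p - 1) := by
  have c := D1b_card h hr
  have : IsCyclic P0 := isCyclic_of_prime_card c
  have h1 := P0.normalizerMonoidHom.ker.card_mul_index
  rw [Subgroup.index_ker, Subgroup.normalizerMonoidHom_ker,
    Nat.card_congr (Subgroup.subgroupOfEquivOfLe (Subgroup.centralizer_le_normalizer _)).toEquiv, hC,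
    h.idx, c] at h1
  have h2 := Subgroup.card_le_card_group P0.normalizerMonoidHom.range
  rw [IsCyclic.card_mulAut, c, Nat.totient_prime h.hp] at h2
  rw [← h1]
  exact Nat.mul_le_mul_left _ h2

theorem D1b_key (h : Thr p q P P0 Γ) (hr : Reg (P : Subgroup G) Γ)
    (hC : Subgroup.centralizer (P0 : Set G) = P) {a b : Ω} (ha : a ∉ Γ) (hb : b ∉ Γ) (hab : a ≠ b) :
    Nat.card (stabilizer (Subgroup.normalizer (P0 : Set G)) (a, b)) *
      (Γᶜ.ncard * Γᶜ.ncard - Γᶜ.ncard) ≤ p * p * (p - 1) := by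
  classical
  refine le_trans ?_ (D1b_N h hr hC)
  rw [← (stabilizer (Subgroup.normalizer (P0 : Set G)) (a, b)).card_mul_index, index_stabilizer,
    Set.ncard_eq_toFinset_card Γᶜ, ← Finset.offDiag_card, ← Set.ncard_coe_finset]
  refine Nat.mul_le_mul_left _ (Set.ncard_le_ncard fun x hx => ?_)
  simp only [Finset.coe_offDiag, Set.mem_offDiag, Set.Finite.coe_toFinset, Set.mem_compl_iff] at hx
  obtain ⟨n, hn, e1, e2⟩ := h.witt a ha b hb x.1 hx.1 x.2 hx.2.1 hab hx.2.2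
  exact ⟨⟨n, hn⟩, Prod.ext e1 e2⟩

theorem D1b_num {p k s : ℕ} (hp : 2 ≤ p) (hk : 1 ≤ k) (hs : p ≤ s)
    (h : s * (p * k * (p * k) - p * k) ≤ p * p * (p - 1)) : k = 1 ∧ s ≤ p := by
  obtain ⟨p, rfl⟩ := Nat.exists_eq_add_of_le' hp
  obtain ⟨k, rfl⟩ := Nat.exists_eq_add_of_le' hk
  have e : (p + 2) * (k + 1) * ((p + 2) * (k + 1)) - (p + 2) * (k + 1) =
      (p + 2) * ((k + 1) * (p * k + p + 2 * k + 1)) := by
    rw [Nat.sub_eq_iff_eq_add (by nlinarith)]; ring
  rw [e, show p + 2 - 1 = p + 1 from rfl, mul_left_comm, mul_assoc] at h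
  replace h := Nat.le_of_mul_le_mul_left h (by omega)
  have k0 : k = 0 := by
    have := Nat.le_of_mul_le_mul_left ((Nat.mul_le_mul_right _ hs).trans h) (by omega)
    have := (Nat.le_mul_of_pos_left _ (Nat.succ_pos k)).trans this
    omega
  subst k0
  refine ⟨rfl, Nat.le_of_mul_le_mul_right (c := p + 1) ?_ (by omega)⟩
  simpa using h

theorem Thr.aone (h : Thr p q P P0 Γ) (hr : Reg (P : Subgroup G) Γ)
    (hC : Subgroup.centralizer (P0 : Set G) = P) :
    2 * q = p + 1 ∧ ∀ a ∉ Γ, ∀ b ∉ Γ, a ≠ b → ∀ n ∈ Subgroup.normalizer (P0 : Set G),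
      n ∈ H2 G a b → n ∈ P0 := by
  have p2 := h.hp.two_le
  have k1 : 1 ≤ 2 * q - p := by have := h.p2q; omega
  have key : ∀ a ∉ Γ, ∀ b ∉ Γ, a ≠ b → 2 * q - p = 1 ∧
      P0.subgroupOf (Subgroup.normalizer (P0 : Set G)) =
        stabilizer (Subgroup.normalizer (P0 : Set G)) (a, b) := fun a ha b hb hab => by
    have k := D1b_key h hr hC ha hb hab
    have le : P0.subgroupOf (Subgroup.normalizer (P0 : Set G)) ≤
        stabilizer (Subgroup.normalizer (P0 : Set G)) (a, b) := fun y hy =>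
      Prod.ext (h.fixF a ha y hy) (h.fixF b hb y hy)
    have c : Nat.card (P0.subgroupOf (Subgroup.normalizer (P0 : Set G))) = p := by
      rw [Nat.card_congr (Subgroup.subgroupOfEquivOfLe Subgroup.le_normalizer).toEquiv, D1b_card h hr]
    rw [h.cardF] at k
    obtain ⟨e, l⟩ := D1b_num p2 k1 (c.ge.trans (Subgroup.card_le_of_le le)) k
    exact ⟨e, Subgroup.eq_of_le_of_card_ge le (l.trans c.ge)⟩
  refine ⟨?_, fun a ha b hb hab n hn hH => ?_⟩
  · obtain ⟨a, ha, b, hb, hab⟩ := (Set.one_lt_ncard (s := Γᶜ)).1 (by rw [h.cardF]; nlinarith)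
    have := (key a ha b hb hab).1
    omega
  · exact (key a ha b hb hab).2.ge (show (⟨n, hn⟩ : Subgroup.normalizer (P0 : Set G)) ∈
      stabilizer _ (a, b) from Prod.ext hH.1 hH.2)

end Cfsg.Agent.El2
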