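import Cfsg.Agent.El2.Defs

set_option autoImplicit false
set_option linter.unusedSectionVars false

namespace Cfsg.Agent.El2

open MulAction

variable {G Ω : Type*} [Group G] [Finite G] [MulAction G Ω] [Finite Ω] {p q : ℕ} [Fact p.Prime]
  {P : Sylow p G} {P0 : Subgroup G} {Γ : Set Ω}

theorem D1c_mem {a x : Ω} {g : G} : g ∈ H2 G a x ↔ g • a = a ∧ g • x = x := Iff.rfl

theorem D1c_cj {a : Ω} {k : G} (hk : k • a = a) (x : Ω) :
    H2 G a (k • x) = (H2 G a x).map (MulAut.conj k).toMonoidHom := by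
  ext g
  rw [Subgroup.mem_map_equiv, D1c_mem, D1c_mem, MulAut.conj_symm_apply]
  simp only [mul_smul, hk, inv_smul_eq_iff]

theorem D1c_dvd {α β : Type*} [DecidableEq β] (S : Finset α) (f : α → β) (m : ℕ)
    (h : ∀ x ∈ S, (S.filter fun y => f y = f x).card = m) : m ∣ S.card := by
  rw [Finset.card_eq_sum_card_image f S]
  refine Finset.dvd_sum fun b hb => ?_
  obtain ⟨x, hx, rfl⟩ := Finset.mem_image.1 hb
  rw [h x hx]

theorem Thr.nofix (h : Thr p q P P0 Γ) (ha : 2 * q = p + 1) {a b d : Ω} (hA : a ∉ Γ) (hb : b ∉ Γ)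
    (hab : a ≠ b) (hda : d ≠ a) (hdb : d ≠ b) : ∃ g ∈ H2 G a b, g • d ≠ d := by
  classical
  by_contra hcon
  push Not at hcon
  have := Fintype.ofFinite Ω
  have hp := h.hp
  set S : Finset Ω := Finset.univ.erase a with hS
  have mS : ∀ x, x ∈ S ↔ x ≠ a := fun x => by simp [hS]
  set m := (S.filter fun y => H2 G a y = H2 G a b).card with hm
  have mv : ∀ (k : G) (x y : Ω), k • a = a → y ∈ (S.filter fun y => H2 G a y = H2 G a x) →
      k • y ∈ (S.filter fun y => H2 G a y = H2 G a (k • x)) := by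
    intro k x y hk hy
    rw [Finset.mem_filter, mS] at hy ⊢
    refine ⟨fun e => hy.1 ?_, by rw [D1c_cj hk, D1c_cj hk, hy.2]⟩
    rw [← hk] at e
    exact smul_left_cancel k e
  have fib : ∀ x ∈ S, (S.filter fun y => H2 G a y = H2 G a x).card = m := by
    intro x hx
    obtain ⟨k, k1, k2⟩ := h.tt a b a x hab ((mS x).1 hx).symm
    have k3 : k⁻¹ • a = a := inv_smul_eq_iff.2 k1.symm
    have k4 : k⁻¹ • x = b := inv_smul_eq_iff.2 k2.symm
    refine Finset.card_nbij' (fun y => k⁻¹ • y) (fun y => k • y) (fun y hy => ?_) (fun y hy => ?_)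
      (fun y _ => smul_inv_smul k y) (fun y _ => inv_smul_smul k y)
    · have := mv k⁻¹ x y k3 hy
      rw [k4] at this
      exact this
    · have := mv k b y k1 hy
      rw [k2] at this
      exact this
  have d1 : m ∣ S.card := D1c_dvd S (fun y => H2 G a y) m fib
  have cS : S.card + 1 = p * (p + 1) := by
    rw [hS, Finset.card_erase_add_one (Finset.mem_univ a), Finset.card_univ, ← Nat.card_eq_fintype_card,
      h.card, ← ha]
    ring
  set F : Finset Ω := S.filter fun y => y ∉ Γ with hF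
  have d2 : m ∣ F.card := by
    refine D1c_dvd F (fun y => H2 G a y) m fun x hx => ?_
    rw [hF, Finset.mem_filter] at hx
    rw [← fib x hx.1]
    congr 1
    ext y
    simp only [hF, Finset.mem_filter]
    refine ⟨fun e => ⟨e.1.1, e.2⟩, fun e => ⟨⟨e.1, fun hy => ?_⟩, e.2⟩⟩
    have o := h.orbB y hy
    have s : (orbit P0 y) = {y} := by
      ext w
      refine ⟨?_, fun hw => by rw [Set.mem_singleton_iff.1 hw]; exact mem_orbit_self y⟩
      rintro ⟨u, rfl⟩
      have hu : (u : G) ∈ H2 G a x := D1c_mem.2 ⟨h.fixF a hA u u.2, h.fixF x hx.2 u u.2⟩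
      rw [← e.2] at hu
      exact (D1c_mem.1 hu).2
    rw [s] at o
    simp only [Nat.card_unique] at o
    exact hp.one_lt.ne o
  have cF : F.card + 1 = p := by
    have e1 : F = (Γᶜ.toFinset).erase a := by
      ext y
      simp [hF, mS]
    have e2 := h.cardF
    rw [Set.ncard_eq_toFinset_card', ha, Nat.add_sub_cancel_left, mul_one] at e2
    rw [e1, Finset.card_erase_add_one (by simpa using hA), e2]
  have m1 : m ∣ 1 := by
    have e : S.card = F.card * (F.card + 3) + 1 := by
      rw [← cF] at cS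
      nlinarith
    rw [e] at d1
    exact (Nat.dvd_add_right (d2.mul_right _)).1 d1
  have m2 : 1 < m := by
    rw [hm, Finset.one_lt_card]
    refine ⟨b, by simp [mS, hab.symm], d, ?_, hdb.symm⟩
    rw [Finset.mem_filter, mS]
    refine ⟨hda, (Subgroup.eq_of_le_of_card_ge (fun g hg => D1c_mem.2 ⟨(D1c_mem.1 hg).1, hcon g hg⟩) ?_).symm⟩
    obtain ⟨k, k1, k2⟩ := h.tt a b a d hab hda.symm
    rw [← k2, D1c_cj k1]
    exact (Subgroup.card_map_of_injective (MulAut.conj k).injective).le
  have := Nat.le_of_dvd one_pos m1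
  omega

end Cfsg.Agent.El2
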