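import Cfsg.Agent.El2.Wit
import Cfsg.Agent.El2.D1c

set_option autoImplicit false

namespace Cfsg.Agent.El2

open MulAction

variable {G Ω : Type*} [Group G] [Finite G] [MulAction G Ω] [Finite Ω] {p q : ℕ} [Fact p.Prime]
  {P : Sylow p G} {P0 : Subgroup G} {Γ : Set Ω}

omit [Finite G] in
theorem D1d_dvd (E : Subgroup G) (hE : IsPGroup p E) (S : Set Ω)
    (hinv : ∀ y ∈ E, ∀ ω ∈ S, y • ω ∈ S) (hnf : ∀ ω ∈ S, ∃ y ∈ E, y • ω ≠ ω) : p ∣ S.ncard := by
  let T : SubMulAction E Ω := { carrier := S, smul_mem' := fun c {x} hx => hinv c c.2 x hx }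
  have h1 := hE.card_modEq_card_fixedPoints T
  have h2 : Nat.card (fixedPoints E T) = 0 := by
    rw [Nat.card_eq_zero]; left
    refine ⟨fun ⟨x, hx⟩ => ?_⟩
    obtain ⟨y, hy, hne⟩ := hnf x.1 x.2
    exact hne (congrArg Subtype.val (hx ⟨y, hy⟩))
  rw [h2] at h1
  exact (Nat.modEq_zero_iff_dvd).1 h1

theorem D1d_in (h : Thr p q P P0 Γ) {a b : Ω} (hA : a ∉ Γ) (hb : b ∉ Γ)
    (hN : ∀ n ∈ Subgroup.normalizer (P0 : Set G), n ∈ H2 G a b → n ∈ P0) {d : Ω} (hd : d ∉ Γ) :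
    ∀ e ∈ orbit (H2 G a b) d, e ≠ d → e ∈ Γ := by
  rintro e ⟨⟨g, hg⟩, rfl⟩ hne
  by_contra he
  apply hne
  change g • d ∉ Γ at he
  change g • d = d
  have hP0 : P0 ≤ H2 G a b := fun y hy => ⟨h.fixF a hA y hy, h.fixF b hb y hy⟩
  obtain ⟨s, hs, hsg⟩ := h.toTwo.witt0 (H2 G a b ⊓ stabilizer G (g • d))
    (fun y hy => ⟨hP0 hy, h.fixF _ he y hy⟩) (g • d) he inf_le_right g (fun y hy => by
      refine ⟨(H2 G a b).mul_mem ((H2 G a b).mul_mem hg (hP0 hy)) ((H2 G a b).inv_mem hg), ?_⟩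
      change (g * y * g⁻¹) • g • d = g • d
      rw [mul_smul, inv_smul_smul, mul_smul, h.fixF d hd y hy])
  have h1 : s * g ∈ P0 := hN _ hsg ((H2 G a b).mul_mem hs.1 hg)
  have h2 := h.fixF d hd _ h1
  have h3 : s • g • d = g • d := hs.2
  rw [mul_smul, h3] at h2
  exact h2

theorem Thr.orbp (h : Thr p q P P0 Γ) (ha : 2 * q = p + 1) {a b : Ω} (hA : a ∉ Γ) (hb : b ∉ Γ)
    (hab : a ≠ b) (hN : ∀ n ∈ Subgroup.normalizer (P0 : Set G), n ∈ H2 G a b → n ∈ P0) :
    ∃ d ∉ Γ, Nat.card (orbit (H2 G a b) d) = p + 1 ∧ ∀ e ∈ orbit (H2 G a b) d, e ≠ d → e ∈ Γ := by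
  classical
  have hp : p.Prime := h.hp
  have hq3 := h.q3
  have hp5 : 5 ≤ p := by omega
  have hP0 : P0 ≤ H2 G a b := fun y hy => ⟨h.fixF a hA y hy, h.fixF b hb y hy⟩
  have hP0p : IsPGroup p P0 := P.isPGroup'.to_le h.le
  have hF : Γᶜ.ncard = p := by
    rw [h.cardF, ha]; simp
  let O : Ω → Set Ω := fun d => orbit (H2 G a b) d \ {d}
  have hdvd : ∀ d ∉ Γ, p ∣ (O d).ncard := by
    intro d hd
    refine D1d_dvd P0 hP0p _ ?_ ?_
    · rintro y hy ω ⟨⟨g, hg⟩, hω⟩
      refine ⟨⟨⟨y, hP0 hy⟩ * g, ?_⟩, ?_⟩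
      · rw [← hg]
        exact mul_smul _ _ _
      · intro h1
        apply hω
        have h2 : y • ω = d := h1
        have h3 := h.fixF d hd y hy
        rw [← h3] at h2
        exact smul_left_cancel y h2
    · rintro ω ⟨h1, h2⟩
      have hω : ω ∈ Γ := D1d_in h hA hb hN hd ω h1 h2
      by_contra hcon
      push Not at hcon
      have h3 := h.orbB ω hω
      have h4 : orbit P0 ω = {ω} := by
        ext x
        constructor
        · rintro ⟨y, rfl⟩
          exact hcon y.1 y.2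
        · rintro rfl
          exact mem_orbit_self _
      rw [h4] at h3
      simp at h3
      omega
  have hcardO : ∀ d, Nat.card (orbit (H2 G a b) d) = (O d).ncard + 1 := by
    intro d
    rw [Nat.card_coe_set_eq]
    exact (Set.ncard_sdiff_singleton_add_one (mem_orbit_self (M := H2 G a b) d) (Set.toFinite _)).symm
  by_contra hcon
  push Not at hcon
  have hbig : ∀ d ∉ Γ, d ≠ a → d ≠ b → 2 * p ≤ (O d).ncard := by
    intro d hd hda hdb
    obtain ⟨k, hk⟩ := hdvd d hd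
    obtain ⟨g, hg, hgd⟩ := h.nofix ha hA hb hab hda hdb
    have hpos : 0 < (O d).ncard :=
      (Set.ncard_pos (Set.toFinite _)).2 ⟨g • d, ⟨⟨g, hg⟩, rfl⟩, hgd⟩
    have hk1 : k ≠ 1 := by
      rintro rfl
      obtain ⟨e, he1, he2, he3⟩ := hcon d hd (by rw [hcardO, hk, mul_one])
      exact he3 (D1d_in h hA hb hN hd e he1 he2)
    have hk0 : k ≠ 0 := by
      rintro rfl
      omega
    have : 2 ≤ k := by omega
    rw [hk, mul_comm]
    exact Nat.mul_le_mul_left p this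
  let D : Finset Ω := (((Set.toFinite Γᶜ).toFinset).erase a).erase b
  have hDmem : ∀ d ∈ D, d ∉ Γ ∧ d ≠ a ∧ d ≠ b := by
    intro d hd
    simp only [D, Finset.mem_erase, Set.Finite.mem_toFinset, Set.mem_compl_iff] at hd
    exact ⟨hd.2.2, hd.2.1, hd.1⟩
  have hDcard : D.card = p - 2 := by
    have h1 : ((Set.toFinite Γᶜ).toFinset).card = p := by
      rw [← Set.ncard_eq_toFinset_card]; exact hF
    have h2 : a ∈ (Set.toFinite Γᶜ).toFinset := by simpa using hA
    have h3 : b ∈ ((Set.toFinite Γᶜ).toFinset).erase a := by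
      simp only [Finset.mem_erase, Set.Finite.mem_toFinset, Set.mem_compl_iff]
      exact ⟨hab.symm, hb⟩
    simp only [D]
    rw [Finset.card_erase_of_mem h3, Finset.card_erase_of_mem h2, h1]
    omega
  have hdisj : (D : Set Ω).PairwiseDisjoint (fun d => (Set.toFinite (O d)).toFinset) := by
    intro d hd d' hd' hne
    rw [Function.onFun, Finset.disjoint_left]
    intro e he he'
    simp only [Set.Finite.mem_toFinset] at he he'
    have h1 : d' ∈ orbit (H2 G a b) d := by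
      have h2 : orbit (H2 G a b) e = orbit (H2 G a b) d := orbit_eq_iff.2 he.1
      have h3 : orbit (H2 G a b) e = orbit (H2 G a b) d' := orbit_eq_iff.2 he'.1
      rw [← h2, h3]
      exact mem_orbit_self _
    exact (hDmem d' hd').1 (D1d_in h hA hb hN (hDmem d hd).1 d' h1 hne.symm)
  have hsub : D.biUnion (fun d => (Set.toFinite (O d)).toFinset) ⊆ (Set.toFinite Γ).toFinset := by
    intro e he
    simp only [Finset.mem_biUnion, Set.Finite.mem_toFinset] at he ⊢
    obtain ⟨d, hd, he⟩ := he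
    exact D1d_in h hA hb hN (hDmem d hd).1 e he.1 he.2
  have hle := Finset.card_le_card hsub
  rw [Finset.card_biUnion hdisj, ← Set.ncard_eq_toFinset_card, h.cardΓ] at hle
  have hge : D.card • (2 * p) ≤ ∑ d ∈ D, ((Set.toFinite (O d)).toFinset).card := by
    apply Finset.card_nsmul_le_sum
    intro d hd
    rw [← Set.ncard_eq_toFinset_card]
    exact hbig d (hDmem d hd).1 (hDmem d hd).2.1 (hDmem d hd).2.2
  rw [hDcard, smul_eq_mul] at hge
  obtain ⟨m, rfl⟩ : ∃ m, p = m + 5 := ⟨p - 5, by omega⟩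
  have : m + 5 - 2 = m + 3 := by omega
  rw [this] at hge
  nlinarith

end Cfsg.Agent.El2
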