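import Cfsg.Agent.El2.Defs

set_option autoImplicit false

namespace Cfsg.Agent.El2

open MulAction

variable {G Ω : Type*} [Group G] [Finite G] [MulAction G Ω] [Finite Ω] {p q : ℕ} [Fact p.Prime]
  {P : Sylow p G} {P0 : Subgroup G} {Γ : Set Ω}

/-- No regular-like normal subgroup of degree `2 q` on which a group of order `p` is transitive. -/
theorem D1e_abs {M Z : Subgroup G} {d : Ω} (hq : q.Prime) (q3 : 3 ≤ q) (hZ : Nat.card Z = p)
    (hM : ¬ p ∣ Nat.card M) (nM : ∀ y ∈ Z, ∀ m ∈ M, y * m * y⁻¹ ∈ M) (hd : ∀ y ∈ Z, y • d = d)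
    (ho : (orbit M d).ncard = p + 1) (ha : 2 * q = p + 1)
    (tr : ∀ e ∈ orbit M d, e ≠ d → ∀ e' ∈ orbit M d, e' ≠ d → ∃ y ∈ Z, y • e = e') : False := by
  have hp : p.Prime := Fact.out
  have mo : ∀ m ∈ M, ∀ e ∈ orbit M d, m • e ∈ orbit M d := fun m hm e ⟨k, hk⟩ =>
    ⟨⟨m, hm⟩ * k, by rw [← hk]; exact mul_smul (⟨m, hm⟩ : M) k d⟩
  have fix : ∀ m ∈ M, m • d = d → ∀ e ∈ orbit M d, m • e = e := fun m hm md e he => by
    by_cases ed : e = d
    · rw [ed, md]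
    set D : Subgroup G := M ⊓ stabilizer G d with hD
    have ne : ∀ k ∈ D, k • e ≠ d := fun k hk c => ed (by
      rw [← inv_smul_smul k e, c]; exact (D.inv_mem hk).2)
    have nD : ∀ y ∈ Z, ∀ k ∈ D, y * k * y⁻¹ ∈ D := fun y hy k hk => ⟨nM y hy k hk.1, by
      change (y * k * y⁻¹) • d = d
      rw [mul_smul, mul_smul, hd _ (Z.inv_mem hy), show k • d = d from hk.2, hd y hy]⟩
    let J : Subgroup G :=
      { carrier := {y | y ∈ Z ∧ ∃ k ∈ D, k • e = y • e}
        one_mem' := ⟨Z.one_mem, 1, D.one_mem, rfl⟩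
        mul_mem' := fun {x y} ⟨x1, k, k1, k2⟩ ⟨y1, l, l1, l2⟩ =>
          ⟨Z.mul_mem x1 y1, x * l * x⁻¹ * k, D.mul_mem (nD x x1 l l1) k1, by
            simp only [mul_smul, k2, inv_smul_smul, l2]⟩
        inv_mem' := fun {x} ⟨x1, k, k1, k2⟩ =>
          ⟨Z.inv_mem x1, x⁻¹ * k⁻¹ * x⁻¹⁻¹, nD _ (Z.inv_mem x1) _ (D.inv_mem k1), by
            simp only [mul_smul, inv_inv, ← k2, inv_smul_smul]⟩ }
    have JZ : J ≤ Z := fun y hy => hy.1
    rcases (Nat.dvd_prime hp).1 (hZ ▸ Subgroup.card_dvd_of_le JZ) with c | c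
    · obtain ⟨y, hy, c1⟩ := tr e he ed _ (mo m hm e he) (ne m ⟨hm, md⟩)
      have : y ∈ J := ⟨hy, m, ⟨hm, md⟩, c1.symm⟩
      rw [Subgroup.card_eq_one.1 c, Subgroup.mem_bot] at this
      rw [← c1, this, one_smul]
    · have eJ : J = Z := Subgroup.eq_of_le_of_card_ge JZ (by rw [c, hZ])
      have e1 : orbit D e = orbit M d \ {d} := Set.Subset.antisymm
        (by rintro _ ⟨k, rfl⟩; exact ⟨mo k k.2.1 e he, ne k k.2⟩) fun x ⟨x1, x2⟩ => by
          obtain ⟨y, hy, c1⟩ := tr e he ed x x1 x2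
          obtain ⟨-, k, k1, k2⟩ : y ∈ J := eJ ▸ hy
          exact ⟨⟨k, k1⟩, k2.trans c1⟩
      have e2 : (stabilizer D e).index = p := by
        rw [index_stabilizer, e1, Set.ncard_sdiff_singleton_of_mem (mem_orbit_self d), ho]; rfl
      exact absurd ((e2 ▸ (stabilizer D e).index_dvd_card).trans
        (Subgroup.card_dvd_of_le inf_le_left)) hM
  have hN : (stabilizer M d).Normal := ⟨fun k hk m => by
    rw [mem_stabilizer_iff, mul_smul, mul_smul]
    have : k • m⁻¹ • d = m⁻¹ • d := fix k k.2 hk _ ⟨m⁻¹, rfl⟩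
    rw [this, smul_inv_smul]⟩
  have hc : Nat.card (M ⧸ stabilizer M d) = 2 * q := by
    rw [← Subgroup.index_eq_card, index_stabilizer, ho, ha]
  have := Fact.mk hq
  obtain ⟨t, ht⟩ := exists_prime_orderOf_dvd_card' (G := M ⧸ stabilizer M d) 2 (by rw [hc]; simp)
  obtain ⟨u, hu⟩ := exists_prime_orderOf_dvd_card' (G := M ⧸ stabilizer M d) q (by rw [hc]; simp)
  obtain ⟨t, rfl⟩ := QuotientGroup.mk_surjective t
  obtain ⟨u, rfl⟩ := QuotientGroup.mk_surjective u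
  have t1 : (t : G) • d ≠ d := fun c => by
    rw [(QuotientGroup.eq_one_iff t).2 c, orderOf_one] at ht; omega
  have u1 : (u : G) • d ≠ d := fun c => by
    rw [(QuotientGroup.eq_one_iff u).2 c, orderOf_one] at hu; omega
  have t2 : (t : G) • (t : G) • d = d := by
    have := pow_orderOf_eq_one (t : M ⧸ stabilizer M d)
    rw [ht, sq, ← QuotientGroup.mk_mul, QuotientGroup.eq_one_iff, mem_stabilizer_iff,
      mul_smul] at this
    exact this
  obtain ⟨y, hy, e⟩ := tr _ ⟨t, rfl⟩ t1 _ ⟨u, rfl⟩ u1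
  replace e : y • (t : G) • d = (u : G) • d := e
  let s : M := ⟨y * t * y⁻¹, nM y hy t t.2⟩
  have yd : y⁻¹ • d = d := hd _ (Z.inv_mem hy)
  have e1 : (u : M ⧸ stabilizer M d) = s := QuotientGroup.eq.2 (by
    change ((u : G)⁻¹ * (y * t * y⁻¹)) • d = d
    rw [mul_smul, mul_smul, mul_smul, yd, e, inv_smul_smul])
  have e2 : (u : M ⧸ stabilizer M d) ^ 2 = 1 := by
    rw [e1, sq, ← QuotientGroup.mk_mul, QuotientGroup.eq_one_iff]
    change ((y * t * y⁻¹) * (y * t * y⁻¹)) • d = d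
    simp only [mul_smul, yd, inv_smul_smul, t2, hd y hy]
  have := Nat.le_of_dvd two_pos (hu ▸ orderOf_dvd_of_pow_eq_one e2)
  omega

theorem Thr.last (h : Thr p q P P0 Γ) (hP0 : Nat.card P0 = p) (ha : 2 * q = p + 1) {a b d : Ω}
    (hA : a ∉ Γ) (hb : b ∉ Γ)
    (hN : ∀ n ∈ Subgroup.normalizer (P0 : Set G), n ∈ H2 G a b → n ∈ P0) (hd : d ∉ Γ)
    (ho : Nat.card (orbit (H2 G a b) d) = p + 1) (he : ∀ e ∈ orbit (H2 G a b) d, e ≠ d → e ∈ Γ) :
    False := by
  have hp : p.Prime := Fact.out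
  set H := H2 G a b with hH
  have le : P0 ≤ H := fun y hy => ⟨h.fixF a hA y hy, h.fixF b hb y hy⟩
  have c0 : Nat.card (P0.subgroupOf H) = p := by
    rw [Nat.card_congr (Subgroup.subgroupOfEquivOfLe le).toEquiv, hP0]
  obtain ⟨S, hS⟩ := (IsPGroup.of_card (p := p) (n := 1) (by rw [c0, pow_one]) :
    IsPGroup p (P0.subgroupOf H)).exists_le_sylow
  have cS : Nat.card S ≤ p := by
    obtain ⟨g, -, hg⟩ := h.st a ((S : Subgroup H).map H.subtype) (S.isPGroup'.map _)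
      (fun x ⟨y, _, e⟩ => e ▸ y.2.1) a hA
    have c1 := h.cardQ a hA
    rw [h.idx, hP0] at c1
    refine le_of_le_of_eq ?_ (Nat.eq_of_mul_eq_mul_left hp.pos c1).symm
    refine Nat.card_le_card_of_injective
      (fun x : S => (⟨g⁻¹ * (x : H) * g, hg _ ⟨x, x.2, rfl⟩⟩ : ↥((P : Subgroup G) ⊓ stabilizer G a)))
      fun x y e => ?_
    have := congrArg Subtype.val e
    simp only [mul_left_inj, mul_right_inj] at this
    exact Subtype.ext (Subtype.ext this)
  have eS : P0.subgroupOf H = S := Subgroup.eq_of_le_of_card_ge hS (by rw [c0]; exact cS)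
  have mS : ∀ {x : H}, x ∈ (S : Subgroup H) ↔ (x : G) ∈ P0 := fun {x} => by
    rw [← eS, Subgroup.mem_subgroupOf]
  have hB : Subgroup.normalizer ((S : Subgroup H) : Set H) ≤
      Subgroup.centralizer ((S : Subgroup H) : Set H) := fun n hn => by
    have n0 : (n : G) ∈ P0 := hN n (Subgroup.mem_normalizer_iff.2 fun x => ⟨fun hx =>
      mS.1 ((Subgroup.mem_normalizer_iff.1 hn ⟨x, le hx⟩).1 (mS.2 hx)), fun hx => by
        have xH : x ∈ H := by
          have := H.mul_mem (H.mul_mem (H.inv_mem n.2) (le hx)) n.2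
          simpa [mul_assoc] using this
        exact mS.1 ((Subgroup.mem_normalizer_iff.1 hn ⟨x, xH⟩).2 (mS.2 hx))⟩) n.2
    exact fun x hx => Subtype.ext (h.comm _ (mS.1 hx) _ n0)
  have hC := MonoidHom.ker_transferSylow_isComplement' S hB
  have hK := MonoidHom.not_dvd_card_ker_transferSylow S hB
  set K := (MonoidHom.transferSylow S hB).ker with hKd
  have eo : orbit (K.map H.subtype) d = orbit H d := Set.Subset.antisymm
    (fun e ⟨⟨_, k, _, rfl⟩, c⟩ => ⟨k, c⟩) fun e ⟨x, c⟩ => by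
      obtain ⟨⟨k, s⟩, e1, -⟩ := hC.existsUnique x
      refine ⟨⟨k, k, k.2, rfl⟩, ?_⟩
      rw [← c, ← e1]
      change ((k : H) : G) • d = (((k : H) : G) * ((s : H) : G)) • d
      rw [mul_smul, h.fixF d hd _ (mS.1 s.2)]
  refine D1e_abs (M := K.map H.subtype) (Z := P0) (d := d) h.hq h.q3 hP0 ?_ ?_ (h.fixF d hd)
    (by rw [eo]; exact ho) ha ?_
  · rwa [Subgroup.card_map_of_injective H.subtype_injective]
  · rintro y hy _ ⟨k, hk, rfl⟩
    exact ⟨_, (MonoidHom.normal_ker _).conj_mem k hk ⟨y, le hy⟩, rfl⟩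
  · rw [eo]
    intro e h1 h2 e' h3 h4
    have sub : orbit P0 e ⊆ orbit H d \ {d} := by
      rintro _ ⟨y, rfl⟩
      obtain ⟨x, rfl⟩ := h1
      refine ⟨⟨⟨y, le y.2⟩ * x, mul_smul (⟨y, le y.2⟩ : H) x d⟩, fun c => h2 ?_⟩
      have : (y : G) • x • d = d := c
      change x • d = d
      rw [← inv_smul_smul (y : G) (x • d), this]
      exact h.fixF d hd _ (P0.inv_mem y.2)
    have := Set.eq_of_subset_of_ncard_le sub (by
      rw [Set.ncard_sdiff_singleton_of_mem (mem_orbit_self d)]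
      have c1 : (orbit P0 e).ncard = p := h.orbB e (he e h1 h2)
      have c2 : (orbit H d).ncard = p + 1 := ho
      omega)
    obtain ⟨y, hy⟩ : e' ∈ orbit P0 e := this ▸ ⟨h3, h4⟩
    exact ⟨y, y.2, hy⟩

end Cfsg.Agent.El2
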