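import Cfsg.Agent.El2.Defs

set_option autoImplicit false
set_option linter.unusedSectionVars false

namespace Cfsg.Agent.El2

open MulAction

variable {G Ω : Type*} [Group G] [Finite G] [MulAction G Ω] [Finite Ω] {p q : ℕ} [Fact p.Prime]
  {P : Sylow p G} {P0 : Subgroup G} {Γ : Set Ω}

theorem Thr.fixW (h : Thr p q P P0 Γ) (hd : Dist P0 Γ) {γ : Ω} (hγ : γ ∈ Γ) :
    P0 ≤ CW P0 γ ∧ ∀ c ∈ CW P0 γ, c • γ ∈ Γ → ∃ w ∈ P0, w • γ = c • γ := by
  refine ⟨fun a ha w hw => h.comm w hw.1 a ha, fun c hc hcγ => hd γ hγ _ hcγ fun y hy e => ?_⟩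
  have := hc y ⟨hy, e⟩
  rw [← mul_smul, this, mul_smul, e]

theorem Thr.sylC (h : Thr p q P P0 Γ) (hd : Dist P0 Γ) {γ : Ω} (hγ : γ ∈ Γ) :
    ¬ p * Nat.card P0 ∣ Nat.card (CW P0 γ) := by
  intro hdv
  rw [← h.idx] at hdv
  have hW : IsPGroup p (P0 ⊓ stabilizer G γ : Subgroup G) :=
    P.isPGroup'.to_le (inf_le_left.trans h.le)
  have WC : (P0 ⊓ stabilizer G γ : Subgroup G) ≤ CW P0 γ := inf_le_left.trans (h.fixW hd hγ).1
  obtain ⟨R, hR⟩ := (hW.comap_subtype (K := CW P0 γ)).exists_le_sylow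
  obtain ⟨Q, hQ⟩ := (R.isPGroup'.map (CW P0 γ).subtype).exists_le_sylow
  obtain ⟨g, hg⟩ := MulAction.exists_smul_eq G P Q
  obtain ⟨n, hn⟩ := P.isPGroup'.exists_card_eq
  have e : (R : Subgroup (CW P0 γ)).map (CW P0 γ).subtype = Q := by
    refine Subgroup.eq_of_le_of_card_ge hQ ?_
    rw [Subgroup.card_map_of_injective (CW P0 γ).subtype_injective,
      ← Nat.card_congr (Sylow.equiv P Q).toEquiv, hn]
    exact Nat.le_of_dvd Nat.card_pos (R.pow_dvd_card_of_pow_dvd_card (hn ▸ hdv))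
  have QC : ∀ y ∈ (P : Subgroup G), g * y * g⁻¹ ∈ CW P0 γ := by
    intro y hy
    have : g * y * g⁻¹ ∈ (Q : Subgroup G) := by
      rw [← hg, Sylow.coe_subgroup_smul]
      exact Subgroup.smul_mem_pointwise_smul y (MulAut.conj g) _ hy
    rw [← e] at this
    obtain ⟨r, -, hr⟩ := this
    rw [← hr]; exact r.2
  obtain ⟨x, hx, hδ⟩ : ∃ x ∈ insert γ Γᶜ, g⁻¹ • x ∈ Γ := by
    by_contra hc
    push Not at hc
    have := Set.ncard_le_ncard_of_injOn (fun x => g⁻¹ • x) (t := Γᶜ) hc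
      (fun a _ b _ e => (MulAction.injective g⁻¹) e)
    rw [Set.ncard_insert_of_notMem (by simpa using hγ)] at this
    omega
  have W1 : ∀ w ∈ P0, w • γ = γ → w = 1 := by
    intro w hw e
    have hwx : w • x = x := by
      rcases hx with rfl | hx
      · exact e
      · exact h.fixF x hx w hw
    have : g⁻¹ * w * g = 1 := by
      refine h.lone _ fun β hβ => ?_
      obtain ⟨y, hy, rfl⟩ := h.tr _ hδ β hβ
      have c := QC y hy w ⟨hw, e⟩
      have c' : g⁻¹ * w * g * y * g⁻¹ = y * g⁻¹ * w := by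
        calc g⁻¹ * w * g * y * g⁻¹ = g⁻¹ * (w * (g * y * g⁻¹)) := by group
          _ = g⁻¹ * (g * y * g⁻¹ * w) := by rw [c]
          _ = _ := by group
      rw [← mul_smul, ← mul_smul, c', mul_smul, hwx, mul_smul]
    calc w = g * (g⁻¹ * w * g) * g⁻¹ := by group
      _ = 1 := by rw [this]; group
  have sub : Γ ⊆ orbit P0 γ := by
    intro β hβ
    obtain ⟨w, hw, e⟩ := hd γ hγ β hβ fun y hy e => by rw [W1 y hy e, one_smul]
    exact ⟨⟨w, hw⟩, e⟩
  have h1 := Set.ncard_le_ncard sub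
  rw [h.cardΓ, ← Nat.card_coe_set_eq, h.orbB γ hγ] at h1
  have := h.hp.two_le
  nlinarith

end Cfsg.Agent.El2
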