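import Cfsg.Agent.El2.D2a

set_option autoImplicit false

namespace Cfsg.Agent.El2

open MulAction

variable {G Ω : Type*} [Group G] [Finite G] [MulAction G Ω] [Finite Ω] {p q : ℕ} [Fact p.Prime]
  {P : Sylow p G} {P0 : Subgroup G} {Γ : Set Ω}

theorem D2e_syl (H A B : Subgroup G) (hA : IsPGroup p A) (hB : IsPGroup p B) (hAH : A ≤ H)
    (hBH : B ≤ H) (hm : ∀ C : Subgroup G, C ≤ H → IsPGroup p C → Nat.card C ≤ Nat.card B) :
    ∃ h ∈ H, ∀ x ∈ A, h⁻¹ * x * h ∈ B := by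
  have hA' : IsPGroup p (A.subgroupOf H) := hA.comap_subtype
  have hB' : IsPGroup p (B.subgroupOf H) := hB.comap_subtype
  obtain ⟨Q, hQ⟩ := hB'.exists_le_sylow
  obtain ⟨R, hR⟩ := hA'.exists_le_sylow
  have hc : Nat.card (Q : Subgroup H) ≤ Nat.card (B.subgroupOf H) := by
    have h1 := hm ((Q : Subgroup H).map H.subtype) (Subgroup.map_subtype_le _)
      (Q.isPGroup'.map _)
    rw [Subgroup.card_map_of_injective H.subtype_injective] at h1
    rwa [Nat.card_congr (Subgroup.subgroupOfEquivOfLe hBH).toEquiv]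
  have hQB : B.subgroupOf H = Q := Subgroup.eq_of_le_of_card_ge hQ hc
  obtain ⟨h, hh⟩ := exists_smul_eq H Q R
  refine ⟨h, h.2, fun x hx => ?_⟩
  have h1 : (⟨x, hAH hx⟩ : H) ∈ (R : Subgroup H) := hR hx
  rw [← hh, Sylow.coe_subgroup_smul, Subgroup.mem_pointwise_smul_iff_inv_smul_mem, ← hQB] at h1
  simpa [Subgroup.mem_subgroupOf] using h1

omit [Finite G] [Finite Ω] in
theorem D2e_mov (h : One p q P P0 Γ) {γ : Ω} (hγ : γ ∈ Γ) : ∃ w ∈ P0, w • γ ≠ γ := by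
  by_contra hn
  push Not at hn
  have h1 : orbit P0 γ = {γ} := by
    ext x
    constructor
    · rintro ⟨w, rfl⟩
      exact hn w w.2
    · rintro rfl
      exact mem_orbit_self _
  have h2 := h.orbB γ hγ
  rw [h1] at h2
  have := h.hp.one_lt
  simp at h2
  omega

omit [Finite G] in
theorem D2e_big (h : One p q P P0 Γ) : 4 ≤ p ∧ p ≤ Γᶜ.ncard := by
  have := h.q3
  have := h.qp
  have := h.p2q
  refine ⟨by omega, ?_⟩
  rw [h.cardF]
  exact Nat.le_mul_of_pos_right _ (by omega)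

theorem Thr.two_pts (h : Thr p q P P0 Γ) (hd : Dist P0 Γ) {γ : Ω} (hγ : γ ∈ Γ) :
    ∃ c ∈ CW P0 γ, ∃ c' ∈ CW P0 γ, c • γ ∉ Γ ∧ c' • γ ∉ Γ ∧ c • γ ≠ c' • γ := by
  obtain ⟨w, hw, hwγ⟩ := D2e_mov h.toOne hγ
  obtain ⟨h4, hF⟩ := D2e_big h.toOne
  obtain ⟨a, ha, b, hb, hab⟩ := (Set.one_lt_ncard (s := Γᶜ) (Set.toFinite _)).1 (by omega)
  obtain ⟨g, hga, hgb⟩ := h.tt a b γ (w • γ) hab hwγ.symm
  have hP0 : IsPGroup p P0 := P.isPGroup'.to_le h.le
  have hcj : ∀ k : G, Nat.card (P0.map (MulAut.conj k).toMonoidHom) = Nat.card P0 := fun k =>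
    Subgroup.card_map_of_injective (MulAut.conj k).injective
  have hP1 : P0.map (MulAut.conj g).toMonoidHom ≤ H2 G γ (w • γ) := by
    rintro _ ⟨y, hy, rfl⟩
    refine ⟨?_, ?_⟩
    · show (g * y * g⁻¹) • γ = γ
      rw [← hga, mul_smul, mul_smul, inv_smul_smul, h.fixF a ha y hy]
    · show (g * y * g⁻¹) • w • γ = w • γ
      rw [← hgb, mul_smul, mul_smul, inv_smul_smul, h.fixF b hb y hy]
  have hW : P0 ⊓ stabilizer G γ ≤ H2 G γ (w • γ) := by
    rintro y ⟨hy, hyγ⟩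
    refine ⟨hyγ, ?_⟩
    show y • w • γ = w • γ
    rw [← mul_smul, h.comm y hy w hw, mul_smul, show y • γ = γ from hyγ]
  obtain ⟨k, hk, hkW⟩ := D2e_syl (H2 G γ (w • γ)) (P0 ⊓ stabilizer G γ) _ (hP0.to_inf_left)
    (hP0.map _) hW hP1 (fun C hC hCp => by
      obtain ⟨s, -, hs⟩ := h.st γ C hCp (fun x hx => (hC hx).1) a ha
      rw [hcj]
      refine Nat.card_le_card_of_injective (fun x : C => (⟨s⁻¹ * x * s,
        h.stabF a ha _ (hs x x.2).1 (hs x x.2).2⟩ : P0)) fun x y hxy => ?_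
      have := congrArg Subtype.val hxy
      simp only [mul_left_inj, mul_right_inj] at this
      exact Subtype.ext this)
  have hP2 : P0.map (MulAut.conj (k * g)).toMonoidHom ≤ H2 G γ (w • γ) := by
    rintro _ ⟨y, hy, rfl⟩
    have : (MulAut.conj (k * g)).toMonoidHom y = k * (g * y * g⁻¹) * k⁻¹ := by
      simp [mul_assoc]
    rw [this]
    exact mul_mem (mul_mem hk (hP1 ⟨y, hy, rfl⟩)) (inv_mem hk)
  have hP3 : P0.map (MulAut.conj (k * g)).toMonoidHom ≤ CW P0 γ := by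
    rintro _ ⟨y, hy, rfl⟩
    refine Subgroup.mem_centralizer_iff.2 fun x hx => ?_
    obtain ⟨z, hz, hzx⟩ := hkW x hx
    have e : x = k * g * z * (k * g)⁻¹ := by
      have : g * z * g⁻¹ = k⁻¹ * x * k := hzx
      calc x = k * (k⁻¹ * x * k) * k⁻¹ := by group
        _ = _ := by rw [← this]; group
    have := h.comm z hz y hy
    rw [e]
    show k * g * z * (k * g)⁻¹ * (k * g * y * (k * g)⁻¹) =
      k * g * y * (k * g)⁻¹ * (k * g * z * (k * g)⁻¹)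
    calc _ = k * g * (z * y) * (k * g)⁻¹ := by group
      _ = _ := by rw [this]; group
  have hle := (h.fixW hd hγ).1
  obtain ⟨c, hc, hcP⟩ := D2e_syl (CW P0 γ) P0 _ hP0 (hP0.map _) hle hP3 (fun C hC hCp => by
    rw [hcj]
    obtain ⟨i, hi⟩ := IsPGroup.iff_card.1 hCp
    obtain ⟨j, hj⟩ := IsPGroup.iff_card.1 hP0
    have h1 := h.sylC hd hγ
    by_contra hlt
    refine h1 (dvd_trans ?_ (Subgroup.card_dvd_of_le hC))
    rw [hi, hj] at hlt
    rw [hi, hj, ← pow_succ']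
    refine pow_dvd_pow _ ?_
    by_contra hij
    exact hlt (Nat.pow_le_pow_right h.hp.pos (by omega)))
  have hout : ∀ δ : Ω, (∀ x ∈ H2 G γ (w • γ), x • δ = δ) → c • δ ∉ Γ := fun δ hδ hin => by
    obtain ⟨y, hy, hne⟩ := D2e_mov h.toOne hin
    apply hne
    have := hδ _ (hP2 (hcP y hy))
    calc y • c • δ = c • (c⁻¹ * y * c) • δ := by simp [mul_smul]
      _ = _ := by rw [this]
  refine ⟨c, hc, c * w, mul_mem hc (hle hw), hout γ fun x hx => hx.1, ?_, ?_⟩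
  · rw [mul_smul]
    exact hout _ fun x hx => hx.2
  · rw [mul_smul]
    exact fun e => hwγ (smul_left_cancel c e).symm

omit [Finite G] [Finite Ω] in
theorem D2e_eqv (h : Thr p q P P0 Γ) {n : G} (hn : n ∈ Subgroup.normalizer (P0 : Set G)) {γ a : Ω}
    (ha : a ∈ orbit (CW P0 γ) γ \ Γ) : n • a ∈ orbit (CW P0 (n • γ)) (n • γ) \ Γ := by
  obtain ⟨⟨c, rfl⟩, ha⟩ := ha
  refine ⟨⟨⟨n * c * n⁻¹, Subgroup.mem_centralizer_iff.2 fun x hx => ?_⟩, ?_⟩,
    fun hin => ha ((h.ninv n hn _).1 hin)⟩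
  · have h1 : n⁻¹ * x * n ∈ P0 ⊓ stabilizer G γ := by
      refine ⟨?_, ?_⟩
      · have := (Subgroup.mem_normalizer_iff.1 hn (n⁻¹ * x * n)).2
        apply this
        have e : n * (n⁻¹ * x * n) * n⁻¹ = x := by group
        rw [e]
        exact hx.1
      · show (n⁻¹ * x * n) • γ = γ
        rw [mul_smul, mul_smul, show x • n • γ = n • γ from hx.2, inv_smul_smul]
    have h2 := Subgroup.mem_centralizer_iff.1 c.2 _ h1
    calc x * (n * c * n⁻¹) = n * (n⁻¹ * x * n * c) * n⁻¹ := by group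
      _ = _ := by rw [h2]; group
  · show (n * c * n⁻¹) • n • γ = n • (c : G) • γ
    simp [mul_smul]

theorem Thr.three_pts (h : Thr p q P P0 Γ) (hd : Dist P0 Γ) :
    ∃ γ ∈ Γ, 3 ≤ (orbit (CW P0 γ) γ \ Γ).ncard := by
  classical
  by_contra hn
  push Not at hn
  obtain ⟨h4, hF⟩ := D2e_big h.toOne
  obtain ⟨T, hT, hTΓ, hTb⟩ := h.blks
  obtain ⟨γ, hγ⟩ := h.ne
  obtain ⟨c, hc, c', hc', h1, h2, h3⟩ := h.two_pts hd hγ
  have hsub : (Set.toFinite Γᶜ).toFinset.offDiag ⊆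
      T.biUnion fun τ => (Set.toFinite (orbit (CW P0 τ) τ \ Γ)).toFinset.offDiag := by
    rintro ⟨a, b⟩ hab
    simp only [Finset.mem_offDiag, Set.Finite.mem_toFinset, Set.mem_compl_iff] at hab
    obtain ⟨n, hn, hna, hnb⟩ := h.witt _ h1 _ h2 a hab.1 b hab.2.1 h3 hab.2.2
    obtain ⟨τ, hτ, y, hy, hyτ⟩ := hTb (n • γ) ((h.ninv n hn γ).2 hγ)
    have hy' : y⁻¹ ∈ Subgroup.normalizer (P0 : Set G) := Subgroup.le_normalizer (inv_mem hy)
    have e : y⁻¹ • n • γ = τ := by rw [← hyτ, inv_smul_smul]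
    have ka := D2e_eqv h hy' (D2e_eqv h hn (γ := γ) ⟨⟨⟨c, hc⟩, rfl⟩, h1⟩)
    have kb := D2e_eqv h hy' (D2e_eqv h hn (γ := γ) ⟨⟨⟨c', hc'⟩, rfl⟩, h2⟩)
    rw [e] at ka kb
    change y⁻¹ • n • c • γ ∈ _ at ka
    change y⁻¹ • n • c' • γ ∈ _ at kb
    rw [hna, h.fixF a hab.1 _ (inv_mem hy)] at ka
    rw [hnb, h.fixF b hab.2.1 _ (inv_mem hy)] at kb
    refine Finset.mem_biUnion.2 ⟨τ, hτ, ?_⟩
    simp only [Finset.mem_offDiag, Set.Finite.mem_toFinset]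
    exact ⟨ka, kb, hab.2.2⟩
  have hc1 := (Finset.card_le_card hsub).trans (Finset.card_biUnion_le_card_mul T _ 2 fun τ hτ => by
    rw [Finset.offDiag_card, ← Set.ncard_eq_toFinset_card]
    have := hn τ (hTΓ τ hτ)
    generalize (orbit (CW P0 τ) τ \ Γ).ncard = m at this
    interval_cases m <;> simp)
  rw [Finset.offDiag_card, ← Set.ncard_eq_toFinset_card] at hc1
  generalize Γᶜ.ncard = m at hF hc1
  have : m * m ≤ T.card * 2 + m := by omega
  nlinarith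

end Cfsg.Agent.El2
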