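import Cfsg.Agent.El2.Defs
import Cfsg.Agent.Trans.SylowIn

set_option autoImplicit false
set_option linter.unusedSectionVars false

namespace Cfsg.Agent.El2

open MulAction Cfsg.Lib.Trans

variable {G Ω : Type*} [Group G] [Finite G] [MulAction G Ω] [Finite Ω] {p q : ℕ} [Fact p.Prime]
  {P : Sylow p G} {P0 : Subgroup G} {Γ : Set Ω}

theorem Wit_fix (h : Two p q P P0 Γ) (ω : Ω) : ω ∉ Γ ↔ ∀ y ∈ P0, y • ω = ω := by
  refine ⟨h.fixF ω, fun k hω => ?_⟩
  have h1 := h.orbB ω hω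
  have : orbit P0 ω = {ω} := Set.eq_singleton_iff_unique_mem.2
    ⟨mem_orbit_self ω, by rintro _ ⟨y, rfl⟩; exact k y.1 y.2⟩
  rw [this] at h1
  simp only [Nat.card_unique] at h1
  exact h.hp.one_lt.ne h1

theorem Two.ninv (h : Two p q P P0 Γ) :
    ∀ n ∈ Subgroup.normalizer (P0 : Set G), ∀ ω : Ω, n • ω ∈ Γ ↔ ω ∈ Γ := by
  intro n hn ω
  rw [← not_iff_not, Wit_fix h, Wit_fix h]
  refine ⟨fun k y hy => ?_, fun k y hy => ?_⟩
  · have := k _ ((Subgroup.mem_normalizer_iff.1 hn y).1 hy)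
    rw [smul_smul, inv_mul_cancel_right, mul_smul] at this
    exact smul_left_cancel n this
  · have h1 : n⁻¹ * y * n ∈ P0 := (Subgroup.mem_normalizer_iff.1 hn _).2 (by simpa [mul_assoc] using hy)
    have := k _ h1
    rw [mul_smul, mul_smul, inv_smul_eq_iff] at this
    exact this

theorem Two.witt0 (h : Two p q P P0 Γ) (H : Subgroup G) (hH : P0 ≤ H) (c : Ω) (hc : c ∉ Γ)
    (hHc : H ≤ stabilizer G c) (g : G) (hg : ∀ y ∈ P0, g * y * g⁻¹ ∈ H) :
    ∃ s ∈ H, s * g ∈ Subgroup.normalizer (P0 : Set G) := by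
  have hP : IsPGroup p P0 := P.isPGroup'.to_le h.le
  have syl : IsSylowIn p P0 H := isSylowIn_of_maximal hH hP fun Q hQ h1 h2 => by
    obtain ⟨k, -, hk⟩ := h.st c Q hQ (h2.trans hHc) c hc
    have e : cj k⁻¹ Q ≤ P0 := cj_le_iff.2 fun a ha => by
      rw [inv_inv]
      exact h.stabF c hc _ (hk a ha).1 (hk a ha).2
    have := Subgroup.card_le_of_le e
    rw [card_cj] at this
    exact (Subgroup.eq_of_le_of_card_ge h1 this).ge
  obtain ⟨s, hs, e⟩ := syl.exists_cj_le (Q := cj g P0) (hP.map _) (cj_le_iff.2 hg)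
  refine ⟨s, hs, Subgroup.mem_normalizer_fintype fun y hy => ?_⟩
  have := cj_le_iff.1 e _ (cj_le_iff.1 le_rfl y hy)
  simpa [mul_assoc] using this

theorem Two.witt1 (h : Two p q P P0 Γ) :
    ∀ a ∉ Γ, ∀ c ∉ Γ, ∃ n ∈ Subgroup.normalizer (P0 : Set G), n • a = c := by
  intro a ha c hc
  obtain ⟨g, rfl⟩ := h.trans.exists_smul_eq a c
  obtain ⟨s, hs, hn⟩ := h.witt0 (stabilizer G (g • a)) (fun y hy => h.fixF _ hc y hy) _ hc le_rfl g
    fun y hy => by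
      rw [mem_stabilizer_iff, smul_smul, inv_mul_cancel_right, mul_smul, h.fixF a ha y hy]
  exact ⟨_, hn, by rw [mul_smul]; exact hs⟩

theorem Wit_two (h : Two p q P P0 Γ) (h2 : TT G Ω) :
    ∀ a ∉ Γ, ∀ b ∉ Γ, ∀ c ∉ Γ, ∀ d ∉ Γ, a ≠ b → c ≠ d →
    ∃ n ∈ Subgroup.normalizer (P0 : Set G), n • a = c ∧ n • b = d := by
  intro a ha b hb c hc d hd ab cd
  obtain ⟨g, rfl, rfl⟩ := h2 a b c d ab cd
  obtain ⟨s, hs, hn⟩ := h.witt0 (H2 G (g • a) (g • b))
    (fun y hy => ⟨h.fixF _ hc y hy, h.fixF _ hd y hy⟩) _ hc inf_le_left g fun y hy =>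
      ⟨by
        change _ • _ = _
        rw [smul_smul, inv_mul_cancel_right, mul_smul, h.fixF a ha y hy], by
        change _ • _ = _
        rw [smul_smul, inv_mul_cancel_right, mul_smul, h.fixF b hb y hy]⟩
  exact ⟨_, hn, by rw [mul_smul]; exact hs.1, by rw [mul_smul]; exact hs.2⟩

theorem Wit_lone (h : Two p q P P0 Γ) (h2 : TT G Ω) (l : G) (hl : ∀ γ ∈ Γ, l • γ = γ) : l = 1 := by
  let L : Subgroup G := fixingSubgroup G Γ
  have mL : ∀ g, g ∈ L ↔ ∀ γ ∈ Γ, g • γ = γ := fun g => mem_fixingSubgroup_iff G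
  have nL : ∀ n ∈ Subgroup.normalizer (P0 : Set G), ∀ g ∈ L, n * g * n⁻¹ ∈ L := fun n hn g hg =>
    (mL _).2 fun γ hγ => by
      rw [mul_smul, mul_smul, (mL g).1 hg _ ((h.ninv _ (inv_mem hn) γ).2 hγ), smul_inv_smul]
  have PN : (P : Subgroup G) ≤ Subgroup.normalizer (L : Set G) := fun y hy =>
    Subgroup.mem_normalizer_fintype (nL y (Subgroup.mem_normalizer_fintype (h.nrm y hy)))
  have syl := (isSylowIn_of_le P PN).inf_normal_of_le le_rfl Subgroup.le_normalizer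
  have nd : ¬ p ∣ Nat.card L := syl.eq_bot_iff.1 (eq_bot_iff.2 fun y hy => by
    obtain ⟨γ, hγ⟩ := h.ne
    have y0 := h.stabΓ γ hγ y hy.1 ((mL y).1 hy.2 γ hγ)
    refine Subgroup.mem_bot.2 (h.faith y fun ω => ?_)
    by_cases k : ω ∈ Γ
    · exact (mL y).1 hy.2 ω k
    · exact h.fixF ω k y y0)
  by_contra l1
  obtain ⟨b, hb⟩ := not_forall.1 fun k => l1 (h.faith l k)
  have out : ∀ g ∈ L, ∀ ω ∉ Γ, g • ω ∉ Γ := fun g hg ω hω k =>
    hω (smul_left_cancel g ((mL g).1 hg _ k) ▸ k)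
  have bΓ : b ∉ Γ := fun k => hb (hl b k)
  have hlL := (mL l).2 hl
  have orb : orbit L b = Γᶜ := by
    refine Set.ext fun d => ⟨?_, fun hd => ?_⟩
    · rintro ⟨g, rfl⟩
      exact out g.1 g.2 b bΓ
    · by_cases db : b = d
      · exact db ▸ mem_orbit_self b
      obtain ⟨n, hn, e1, e2⟩ := Wit_two h h2 b bΓ (l • b) (out l hlL b bΓ) b bΓ d hd (Ne.symm hb) db
      refine ⟨⟨_, nL n hn l hlL⟩, ?_⟩
      change (n * l * n⁻¹) • b = d
      rw [mul_smul, mul_smul, inv_smul_eq_iff.2 e1.symm, e2]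
  have := (stabilizer L b).index_dvd_card
  rw [index_stabilizer, orb, h.cardF] at this
  exact nd ((Dvd.intro _ rfl).trans this)

theorem Two.thr (h : Two p q P P0 Γ) (h2 : TT G Ω) : Thr p q P P0 Γ :=
  { h with
    tt := h2
    witt := Wit_two h h2
    ninv := h.ninv
    lone := Wit_lone h h2 }

end Cfsg.Agent.El2
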