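import Cfsg.Agent.El2.D2a
import Cfsg.Agent.El2.Wit

set_option autoImplicit false

namespace Cfsg.Agent.El2

open MulAction

variable {G Ω : Type*} [Group G] [Finite G] [MulAction G Ω] [Finite Ω] {p q : ℕ} [Fact p.Prime]
  {P : Sylow p G} {P0 : Subgroup G} {Γ : Set Ω}

theorem D2f_cen (h : Thr p q P P0 Γ) (hd : Dist P0 Γ) {g : G} (hn : g ∈ Subgroup.normalizer (P0 : Set G))
    (hg : ∀ y ∈ P0, g * y = y * g) : g ^ p = 1 := by
  refine h.lone _ fun δ hδ => ?_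
  obtain ⟨w, hw, e⟩ := hd δ hδ (g • δ) ((h.ninv g hn δ).2 hδ) fun y hy k => by
    rw [← mul_smul, ← hg y hy, mul_smul, k]
  have k : ∀ i : ℕ, g ^ i • δ = w ^ i • δ := fun i => by
    induction i with
    | zero => rw [pow_zero, pow_zero]
    | succ i ih =>
      rw [pow_succ', mul_smul, ih, ← mul_smul, hg _ (pow_mem hw i), mul_smul, ← e, ← mul_smul, ← pow_succ]
  rw [k, h.pow w hw, one_smul]

theorem Thr.frat (h : Thr p q P P0 Γ) (hd : Dist P0 Γ) {γ : Ω} (hγ : γ ∈ Γ) {c : G}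
    (hc : c ∈ CW P0 γ) (hB : ∀ w ∈ P0, c • w • γ = w • γ) {β : Ω}
    (hβ : β ∈ orbit (CW P0 γ) γ) (hβΓ : β ∉ Γ) (h1 : c • β ≠ β) (h3 : c ^ 3 • β = β) : False := by
  obtain ⟨hPC, hO⟩ := h.fixW hd hγ
  have st : ∀ k ∈ CW P0 γ, ∀ o ∈ orbit (CW P0 γ) γ, k • o ∈ orbit (CW P0 γ) γ := by
    rintro k hk _ ⟨a, rfl⟩
    exact ⟨⟨k, hk⟩ * a, mul_smul _ _ _⟩
  have inB : ∀ o ∈ orbit (CW P0 γ) γ, o ∈ Γ → ∃ w ∈ P0, w • γ = o := by
    rintro _ ⟨a, rfl⟩ k
    exact hO a a.2 k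
  let K : Subgroup G :=
    { carrier := {k | k ∈ CW P0 γ ∧ ∃ w ∈ P0, ∀ o ∈ orbit (CW P0 γ) γ, k • o = w • o}
      one_mem' := ⟨one_mem _, 1, one_mem _, fun _ _ => rfl⟩
      mul_mem' := by
        rintro a b ⟨ha, w, hw, e⟩ ⟨hb, w', hw', e'⟩
        exact ⟨mul_mem ha hb, w * w', mul_mem hw hw', fun o ho => by
          rw [mul_smul, mul_smul, e' o ho, e _ (st _ (hPC hw') o ho)]⟩
      inv_mem' := by
        rintro a ⟨ha, w, hw, e⟩
        exact ⟨inv_mem ha, w⁻¹, inv_mem hw, fun o ho => by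
          rw [inv_smul_eq_iff, e _ (st _ (hPC (inv_mem hw)) o ho), smul_inv_smul]⟩ }
  have cy : ∀ y ∈ P0, ∀ o ∈ orbit (CW P0 γ) γ, c • y • o = y • c • o := fun y hy o ho => by
    by_cases k : o ∈ Γ
    · obtain ⟨w, hw, rfl⟩ := inB o ho k
      rw [hB w hw, ← mul_smul y, hB _ (mul_mem hy hw)]
    · have k' : c • o ∉ Γ := fun k' => by
        obtain ⟨w, hw, e⟩ := inB _ (st c hc o ho) k'
        have e1 := hB w hw
        rw [e] at e1
        exact k (smul_left_cancel c e1 ▸ k')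
      rw [h.fixF o k y hy, h.fixF _ k' y hy]
  obtain ⟨s, ⟨hs, w, hw, es⟩, hsn⟩ := h.toTwo.witt0 K (fun y hy => ⟨hPC hy, y, hy, fun _ _ => rfl⟩) β hβΓ
    (by
      rintro k ⟨-, w, hw, e⟩
      exact (e β hβ).trans (h.fixF β hβΓ w hw)) c
    fun y hy => ⟨mul_mem (mul_mem hc (hPC hy)) (inv_mem hc), y, hy, fun o ho => by
      rw [mul_smul, mul_smul, cy y hy _ (st _ (inv_mem hc) o ho), smul_inv_smul]⟩
  obtain ⟨n, nN, nC, en⟩ : ∃ n ∈ Subgroup.normalizer (P0 : Set G), n ∈ CW P0 γ ∧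
      ∀ o ∈ orbit (CW P0 γ) γ, n • o = c • o :=
    ⟨w⁻¹ * (s * c), mul_mem (Subgroup.le_normalizer (inv_mem hw)) hsn,
      mul_mem (hPC (inv_mem hw)) (mul_mem hs hc), fun o ho => by
        rw [mul_smul, mul_smul, es _ (st c hc o ho), inv_smul_smul]⟩
  have g0 : γ ∈ orbit (CW P0 γ) γ := mem_orbit_self γ
  have np : ∀ y ∈ P0, n ^ p * y = y * n ^ p := fun y hy => by
    have uP : n * y * n⁻¹ * y⁻¹ ∈ P0 := mul_mem ((Subgroup.mem_normalizer_iff.1 nN y).1 hy) (inv_mem hy)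
    have o1 := st _ (inv_mem nC) _ (st _ (hPC (inv_mem hy)) γ g0)
    have uγ : (n * y * n⁻¹ * y⁻¹) • γ = γ := by
      rw [mul_smul, mul_smul, mul_smul, en _ (st _ (hPC hy) _ o1), cy y hy _ o1, ← en _ o1, smul_inv_smul,
        smul_inv_smul]
    have cu : (n * y * n⁻¹ * y⁻¹) * n = n * (n * y * n⁻¹ * y⁻¹) := nC _ ⟨uP, uγ⟩
    have up := h.pow _ uP
    generalize hu : n * y * n⁻¹ * y⁻¹ = u at cu up
    have e : n * y = u * y * n := by rw [← hu]; group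
    have k : ∀ i : ℕ, n ^ i * y = u ^ i * y * n ^ i := fun i => by
      induction i with
      | zero => simp
      | succ i ih =>
        have cm : n * u ^ i = u ^ i * n := (Commute.pow_right (show Commute n u from cu.symm) i).eq
        calc n ^ (i + 1) * y = n * (n ^ i * y) := by rw [pow_succ', mul_assoc]
          _ = n * u ^ i * y * n ^ i := by rw [ih]; simp only [mul_assoc]
          _ = u ^ i * (n * y) * n ^ i := by rw [cm]; simp only [mul_assoc]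
          _ = u ^ (i + 1) * y * n ^ (i + 1) := by rw [e, pow_succ, pow_succ']; simp only [mul_assoc]
    rw [k, up, one_mul]
  have n1 := D2f_cen h hd (pow_mem nN p) np
  have ni : ∀ i : ℕ, n ^ i • β = c ^ i • β := fun i => by
    induction i with
    | zero => rw [pow_zero, pow_zero]
    | succ i ih => rw [pow_succ', pow_succ', mul_smul, mul_smul, ih, en _ (st _ (pow_mem hc i) β hβ)]
  have e1 : c ^ (p * p) • β = β := by rw [← ni, pow_mul, n1, one_smul]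
  have q3 := h.q3
  have qp := h.qp
  have n3 : ¬ 3 ∣ p := fun k => by
    have := (Nat.prime_dvd_prime_iff_eq Nat.prime_three h.hp).1 k
    omega
  obtain ⟨m, hm⟩ : ∃ m, p * p = 1 + 3 * m := by
    obtain ⟨t, rfl | rfl⟩ : ∃ t, p = 3 * t + 1 ∨ p = 3 * t + 2 := ⟨p / 3, by omega⟩
    · exact ⟨3 * t * t + 2 * t, by ring⟩
    · exact ⟨3 * t * t + 4 * t + 1, by ring⟩
  have e2 : (c ^ 3) ^ m • β = β := (pow_mem (show c ^ 3 ∈ stabilizer G β from h3) m :)
  rw [hm, pow_add, pow_one, pow_mul, mul_smul, e2] at e1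
  exact h1 e1

end Cfsg.Agent.El2
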