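import Cfsg.Agent.El2.D2a

set_option autoImplicit false

namespace Cfsg.Agent.El2

open MulAction

variable {G Ω : Type*} [Group G] [Finite G] [MulAction G Ω] [Finite Ω] {p q : ℕ}
  [Fact p.Prime] {P : Sylow p G} {P0 : Subgroup G} {Γ : Set Ω}

/-- the elements of `C` preserving the set `B` -/
def D2pM (C : Subgroup G) (B : Set Ω) : Subgroup G where
  carrier := {g | g ∈ C ∧ ∀ ω : Ω, g • ω ∈ B ↔ ω ∈ B}
  one_mem' := ⟨C.one_mem, fun ω => by rw [one_smul]⟩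
  mul_mem' := by
    rintro a b ⟨ha, ha'⟩ ⟨hb, hb'⟩
    exact ⟨C.mul_mem ha hb, fun ω => by rw [mul_smul, ha', hb']⟩
  inv_mem' := by
    rintro a ⟨ha, ha'⟩
    refine ⟨C.inv_mem ha, fun ω => ?_⟩
    rw [← ha' (a⁻¹ • ω), smul_inv_smul]

omit [Finite G] [Finite Ω] in
theorem D2p_mem_orbit (H : Subgroup G) (γ ω : Ω) :
    ω ∈ orbit H γ ↔ ∃ w ∈ H, w • γ = ω := by
  constructor
  · rintro ⟨⟨w, hw⟩, rfl⟩
    exact ⟨w, hw, rfl⟩
  · rintro ⟨w, hw, rfl⟩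
    exact ⟨⟨w, hw⟩, rfl⟩

omit [Finite Ω] [Fact p.Prime] in
theorem D2p_dvd (C : Subgroup G) (γ : Ω) (hle : P0 ≤ C) (horb : Nat.card (orbit P0 γ) = p)
    {c : G} (hc : c ∈ C) (hfix : ∀ y ∈ P0, ∀ w ∈ P0, (c * y * c⁻¹) • w • γ = w • γ) :
    p * Nat.card P0 ∣ Nat.card C := by
  classical
  set B : Set Ω := orbit P0 γ with hB
  have hMC : D2pM C B ≤ C := fun g hg => hg.1
  have hP0M : P0 ≤ D2pM C B := by
    intro y hy
    refine ⟨hle hy, fun ω => ?_⟩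
    rw [hB, D2p_mem_orbit, D2p_mem_orbit]
    constructor
    · rintro ⟨w, hw, hw'⟩
      exact ⟨y⁻¹ * w, P0.mul_mem (P0.inv_mem hy) hw, by rw [mul_smul, hw', inv_smul_smul]⟩
    · rintro ⟨w, hw, rfl⟩
      exact ⟨y * w, P0.mul_mem hy hw, by rw [mul_smul]⟩
  have horbM : orbit (D2pM C B) γ = B := by
    ext ω
    rw [D2p_mem_orbit]
    constructor
    · rintro ⟨g, hg, rfl⟩
      exact (hg.2 γ).2 (mem_orbit_self γ)
    · intro hω
      rw [hB, D2p_mem_orbit] at hω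
      obtain ⟨w, hw, rfl⟩ := hω
      exact ⟨w, hP0M hw, rfl⟩
  have hconj : ∀ y ∈ P0, c * y * c⁻¹ ∈ D2pM C B := by
    intro y hy
    refine ⟨C.mul_mem (C.mul_mem hc (hle hy)) (C.inv_mem hc), fun ω => ?_⟩
    constructor
    · intro hω
      obtain ⟨w, hw, hw'⟩ := (D2p_mem_orbit P0 γ _).1 hω
      have h1 := hfix y hy w hw
      have h2 : w • γ = ω := smul_left_cancel (c * y * c⁻¹) (h1.trans hw')
      exact (D2p_mem_orbit P0 γ _).2 ⟨w, hw, h2⟩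
    · intro hω
      obtain ⟨w, hw, rfl⟩ := (D2p_mem_orbit P0 γ _).1 hω
      rw [hfix y hy w hw]
      exact hω
  let f : P0 →* stabilizer (D2pM C B) γ :=
    { toFun := fun y => ⟨⟨c * y * c⁻¹, hconj y y.2⟩, by
        have := hfix y y.2 1 P0.one_mem
        rw [one_smul] at this
        exact this⟩
      map_one' := by
        ext
        simp
      map_mul' := by
        intro a b
        ext
        simp [mul_assoc] }
  have hf : Function.Injective f := by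
    intro a b hab
    have h1 : c * (a : G) * c⁻¹ = c * (b : G) * c⁻¹ :=
      congrArg (fun z : stabilizer (D2pM C B) γ => ((z : D2pM C B) : G)) hab
    exact Subtype.ext (mul_left_cancel (mul_right_cancel h1))
  have h1 : Nat.card P0 ∣ Nat.card (stabilizer (D2pM C B) γ) :=
    Subgroup.card_dvd_of_injective f hf
  have h2 : (stabilizer (D2pM C B) γ).index = p := by
    rw [index_stabilizer, horbM, ← horb, Nat.card_coe_set_eq]
  have h3 := (stabilizer (D2pM C B) γ).index_mul_card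
  rw [h2] at h3
  exact ((Nat.mul_dvd_mul_left p h1).trans (Dvd.intro 1 (by rw [mul_one, h3]))).trans
    (Subgroup.card_dvd_of_le hMC)

theorem D2p_core (h : Thr p q P P0 Γ) (hd : Dist P0 Γ) {γ : Ω} (hγ : γ ∈ Γ) (E : Set Ω)
    (h0 : γ ∈ E) (hsub : ∀ x ∈ E, ∃ c ∈ CW P0 γ, c • γ = x)
    (blk : ∀ g ∈ CW P0 γ, ∀ x ∈ E, g • x ∈ E → ∀ y ∈ E, g • y ∈ E)
    {δ : Ω} (hδ : δ ∈ E) (hne : δ ≠ γ) : ∀ c ∈ CW P0 γ, c • γ ∈ E := by
  obtain ⟨hle, hW⟩ := h.fixW hd hγ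
  have s1 : ∀ w ∈ P0, w • γ ∈ E := by
    intro w hw
    by_cases hδΓ : δ ∈ Γ
    · obtain ⟨c, hc, hcδ⟩ := hsub δ hδ
      obtain ⟨w0, hw0, hw0'⟩ := hW c hc (hcδ ▸ hδΓ)
      rw [hcδ] at hw0'
      obtain ⟨i, hi⟩ := h.cyc γ hγ w0 hw0 (hw0' ▸ hne) w hw
      rw [hi]
      clear hi
      induction i with
      | zero => rw [pow_zero, one_smul]; exact h0
      | succ i ih =>
        rw [pow_succ', mul_smul]
        exact blk w0 (hle hw0) γ h0 (hw0' ▸ hδ) _ ih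
    · exact blk w (hle hw) δ hδ (by rw [h.fixF δ hδΓ w hw]; exact hδ) γ h0
  intro c hc
  by_contra hcE
  refine h.sylC hd hγ (D2p_dvd _ γ hle (h.orbB γ hγ) hc ?_)
  intro y hy w hw
  have hnot : c⁻¹ • w • γ ∉ Γ := by
    intro hin
    rw [← mul_smul] at hin
    obtain ⟨w', hw', hw''⟩ := hW (c⁻¹ * w) ((CW P0 γ).mul_mem ((CW P0 γ).inv_mem hc) (hle hw)) hin
    refine hcE (blk c hc (w' • γ) (s1 w' hw') ?_ γ h0)
    rw [hw'', mul_smul, smul_inv_smul]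
    exact s1 w hw
  rw [mul_smul, mul_smul, h.fixF _ hnot y hy, smul_inv_smul]

theorem Thr.prim (h : Thr p q P P0 Γ) (hd : Dist P0 Γ) {γ : Ω} (hγ : γ ∈ Γ) :
    IsPreprimitive (CW P0 γ) (orbit (CW P0 γ) γ) := by
  refine IsPreprimitive.of_isTrivialBlock_base (a := ⟨γ, mem_orbit_self γ⟩) ?_
  intro D hD hblk
  by_cases hs : D.Subsingleton
  · exact Or.inl hs
  right
  obtain ⟨δ, hδ, hne⟩ := (Set.not_subsingleton_iff.1 hs).exists_ne ⟨γ, mem_orbit_self γ⟩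
  have key := D2p_core h hd hγ (Subtype.val '' D) ⟨_, hD, rfl⟩
    (by
      rintro x ⟨⟨x, hx⟩, -, rfl⟩
      exact (D2p_mem_orbit _ γ x).1 hx)
    (by
      rintro g hg x ⟨x, hx, rfl⟩ ⟨z, hz, hz'⟩ y ⟨y, hy, rfl⟩
      have h1 : (⟨g, hg⟩ : CW P0 γ) • x = z := Subtype.ext hz'.symm
      have h2 := hblk.smul_eq_of_mem hx (h1 ▸ hz)
      refine ⟨(⟨g, hg⟩ : CW P0 γ) • y, ?_, rfl⟩
      rw [← h2]
      exact Set.smul_mem_smul_set hy)
    (δ := δ.1) ⟨δ, hδ, rfl⟩ (fun e => hne (Subtype.ext e))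
  refine Set.eq_univ_of_forall ?_
  rintro ⟨x, hx⟩
  obtain ⟨c, hc, rfl⟩ := (D2p_mem_orbit _ γ x).1 hx
  obtain ⟨z, hz, hz'⟩ := key c hc
  have : z = ⟨c • γ, hx⟩ := Subtype.ext hz'
  exact this ▸ hz

end Cfsg.Agent.El2
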