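import Cfsg.Agent.El2.D2a
import Cfsg.Agent.El2.D2p
import Cfsg.Agent.S0713

set_option autoImplicit false

namespace Cfsg.Agent.El2

open MulAction

variable {G Ω : Type*} [Group G] [Finite G] [MulAction G Ω] [Finite Ω] {p q : ℕ} [Fact p.Prime]
  {P : Sylow p G} {P0 : Subgroup G} {Γ : Set Ω}

theorem Thr.jor (h : Thr p q P P0 Γ) (hd : Dist P0 Γ) {γ : Ω} (hγ : γ ∈ Γ)
    (h3 : 3 ≤ (orbit (CW P0 γ) γ \ Γ).ncard) :
    ∃ c ∈ CW P0 γ, (∀ w ∈ P0, c • w • γ = w • γ) ∧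
      ∃ β ∈ orbit (CW P0 γ) γ, β ∉ Γ ∧ c • β ≠ β ∧ c ^ 3 • β = β := by
  classical
  obtain ⟨hle, hW⟩ := h.fixW hd hγ
  have hprim := h.prim hd hγ
  have hp := h.hp
  have hB := h.orbB γ hγ
  set C := CW P0 γ with hC
  let O : Set Ω := orbit C γ
  have := Fintype.ofFinite O
  let ρ := MulAction.toPermHom C O
  have hρ : ∀ (c : C) (x : O), ((ρ c x : O) : Ω) = (c : G) • (x : Ω) := fun c x => rfl
  have hprim' : IsPreprimitive ρ.range O :=
    IsPreprimitive.of_surjective (φ := ρ.rangeRestrict)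
      (f := ⟨id, fun _ _ => rfl⟩) Function.surjective_id
  have hBO : ∀ w ∈ P0, w • γ ∈ O := fun w hw => ⟨⟨w, hle hw⟩, rfl⟩
  have hBΓ : ∀ w ∈ P0, w • γ ∈ Γ := fun w hw => h.inv w (h.le hw) γ hγ
  obtain ⟨y, hy, hyγ⟩ : ∃ y ∈ P0, y • γ ≠ γ := by
    by_contra! f
    have : orbit P0 γ = {γ} := Set.eq_singleton_iff_unique_mem.2
      ⟨mem_orbit_self γ, by rintro _ ⟨w, rfl⟩; exact f w w.2⟩
    rw [this, Nat.card_unique] at hB
    exact hp.one_lt.ne hB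
  have hsup : (ρ ⟨y, hle hy⟩).support.card = p := by
    rw [← hB, ← Nat.card_eq_finsetCard]
    refine Nat.card_congr (Equiv.ofBijective (fun x => ⟨x.1.1, ?_⟩) ⟨fun a b e => ?_, ?_⟩)
    · obtain ⟨⟨_, c, rfl⟩, hx⟩ := x
      by_cases e : (c : G) • γ ∈ Γ
      · obtain ⟨w, hw, e'⟩ := hW c c.2 e
        exact ⟨⟨w, hw⟩, e'⟩
      · exact absurd (Subtype.ext (h.fixF _ e y hy)) (Equiv.Perm.mem_support.1 hx)
    · exact Subtype.ext (Subtype.ext (congrArg (fun x : orbit P0 γ => (x : Ω)) e))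
    · rintro ⟨_, w, rfl⟩
      refine ⟨⟨⟨_, hBO w w.2⟩, Equiv.Perm.mem_support.2 fun e => hyγ ?_⟩, rfl⟩
      have e' : y • (w : G) • γ = (w : G) • γ := congrArg Subtype.val e
      rw [← mul_smul, h.comm y hy w w.2, mul_smul] at e'
      exact smul_left_cancel _ e'
  have hord : orderOf (ρ ⟨y, hle hy⟩) = p := by
    refine orderOf_eq_prime ?_ fun e => ?_
    · rw [← map_pow, show (⟨y, hle hy⟩ : C) ^ p = 1 from Subtype.ext (h.pow y hy), map_one]
    · rw [e, Equiv.Perm.support_one, Finset.card_empty] at hsup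
      exact hp.ne_zero hsup.symm
  have hcyc : (ρ ⟨y, hle hy⟩).IsCycle :=
    Equiv.Perm.isCycle_of_prime_order (hord.symm ▸ hp) (by
      rw [hsup, hord]; have := hp.pos; omega)
  have hcard : p + 3 ≤ Fintype.card O := by
    have e1 : (orbit P0 γ).ncard ≤ (O ∩ Γ).ncard := Set.ncard_le_ncard (by
      rintro _ ⟨w, rfl⟩; exact ⟨hBO w w.2, hBΓ w w.2⟩)
    have e2 := Set.ncard_inter_add_ncard_sdiff_eq_ncard O Γ
    rw [← Nat.card_coe_set_eq, hB] at e1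
    rw [← Nat.card_eq_fintype_card, Nat.card_coe_set_eq]
    have h3' : 3 ≤ (O \ Γ).ncard := h3
    omega
  have hA := Cfsg.Agent.S0713.result ρ.range hprim' hp (by have := hp.two_le; omega) hcard hcyc
    hsup ⟨_, rfl⟩
  obtain ⟨a, ha, b, hb, d, hd', ab, ad, bd⟩ := (Set.two_lt_ncard (Set.toFinite _)).1 h3
  let a' : O := ⟨a, ha.1⟩
  let b' : O := ⟨b, hb.1⟩
  let d' : O := ⟨d, hd'.1⟩
  have ab' : a' ≠ b' := fun e => ab (congrArg Subtype.val e)
  have ad' : a' ≠ d' := fun e => ad (congrArg Subtype.val e)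
  have bd' : b' ≠ d' := fun e => bd (congrArg Subtype.val e)
  have h3c := Equiv.Perm.isThreeCycle_swap_mul_swap_same ab' ad' bd'
  obtain ⟨c, hc⟩ := hA h3c.mem_alternatingGroup
  refine ⟨c, c.2, fun w hw => ?_, a, ha.1, ha.2, fun e => ?_, ?_⟩
  · have n : ∀ x : O, (x : Ω) ∉ Γ → (⟨_, hBO w hw⟩ : O) ≠ x := fun x hx e =>
      hx (e ▸ hBΓ w hw)
    have := hρ c ⟨_, hBO w hw⟩
    rw [hc, Equiv.Perm.mul_apply, Equiv.swap_apply_of_ne_of_ne (n a' ha.2) (n d' hd'.2),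
      Equiv.swap_apply_of_ne_of_ne (n a' ha.2) (n b' hb.2)] at this
    exact this.symm
  · have := hρ c a'
    rw [hc, Equiv.Perm.mul_apply, Equiv.swap_apply_left,
      Equiv.swap_apply_of_ne_of_ne ad'.symm bd'.symm] at this
    exact ad (e.symm.trans this.symm)
  · have := hρ (c ^ 3) a'
    rw [map_pow, hc, ← h3c.orderOf, pow_orderOf_eq_one, h3c.orderOf] at this
    exact this.symm

end Cfsg.Agent.El2
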