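import Mathlib

set_option autoImplicit false

namespace Cfsg.Agent.El2

open MulAction

/-- an elusive transitive group of degree `2pq`, `q < p` -/
structure El (G Ω : Type*) [Group G] [MulAction G Ω] (p q : ℕ) : Prop where
  trans : IsPretransitive G Ω
  faith : ∀ g : G, (∀ ω : Ω, g • ω = ω) → g = 1
  hp : p.Prime
  hq : q.Prime
  q3 : 3 ≤ q
  qp : q < p
  card : Nat.card Ω = 2 * p * q
  elus : ∀ g : G, (orderOf g).Prime → ∃ ω : Ω, g • ω = ω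

variable {G Ω : Type*} [Group G] [MulAction G Ω]

/-- the Sylow subgroup `P` has an orbit `Γ` of length `p ^ 2` -/
structure Pre (p q : ℕ) (P : Sylow p G) (P0 : Subgroup G) (Γ : Set Ω) : Prop
    extends El G Ω p q where
  le : P0 ≤ P
  idx : Nat.card P = p * Nat.card P0
  nrm : ∀ y ∈ (P : Subgroup G), ∀ w ∈ P0, y * w * y⁻¹ ∈ P0
  ne : Γ.Nonempty
  cardΓ : Γ.ncard = p ^ 2
  inv : ∀ y ∈ (P : Subgroup G), ∀ γ ∈ Γ, y • γ ∈ Γ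
  tr : ∀ γ ∈ Γ, ∀ γ' ∈ Γ, ∃ y ∈ (P : Subgroup G), y • γ = γ'
  stabΓ : ∀ γ ∈ Γ, ∀ y ∈ (P : Subgroup G), y • γ = γ → y ∈ P0
  orbF : ∀ ω ∉ Γ, Nat.card (orbit (P : Subgroup G) ω) = p

/-- `Pre` with its first consequences -/
structure One (p q : ℕ) (P : Sylow p G) (P0 : Subgroup G) (Γ : Set Ω) : Prop
    extends Pre p q P P0 Γ where
  p2q : p < 2 * q
  cardF : Γᶜ.ncard = p * (2 * q - p)
  cardW : ∀ γ ∈ Γ, Nat.card P0 = p * Nat.card ↥((P : Subgroup G) ⊓ stabilizer G γ)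
  cardQ : ∀ ω ∉ Γ, Nat.card P = p * Nat.card ↥((P : Subgroup G) ⊓ stabilizer G ω)
  nrmQ : ∀ ω ∉ Γ, ∀ x ∈ (P : Subgroup G), ∀ y ∈ (P : Subgroup G), x • ω = ω → x • y • ω = y • ω
  comQ : ∀ ω ∉ Γ, ∀ x ∈ (P : Subgroup G), ∀ y ∈ (P : Subgroup G), x • y • ω = y • x • ω
  powQ : ∀ ω ∉ Γ, ∀ x ∈ (P : Subgroup G), x ^ p • ω = ω
  orbB : ∀ γ ∈ Γ, Nat.card (orbit P0 γ) = p
  orbLe : ∀ ω : Ω, Nat.card (orbit P0 ω) ≤ p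
  comm : ∀ a ∈ P0, ∀ b ∈ P0, a * b = b * a
  pow : ∀ a ∈ P0, a ^ p = 1
  gen : ∀ x ∈ (P : Subgroup G), x ∉ P0 → ∀ y ∈ (P : Subgroup G), ∃ i : ℕ, ∃ w ∈ P0, y = x ^ i * w
  cyc : ∀ γ ∈ Γ, ∀ c ∈ P0, c • γ ≠ γ → ∀ w ∈ P0, ∃ i : ℕ, w • γ = c ^ i • γ
  reps : ∃ T : Finset Ω, T.card ≤ 2 * q - p ∧ (∀ τ ∈ T, τ ∉ Γ) ∧
    ∀ ω ∉ Γ, ∃ τ ∈ T, ∃ y ∈ (P : Subgroup G), y • τ = ω
  blks : ∃ T : Finset Ω, T.card ≤ p ∧ (∀ τ ∈ T, τ ∈ Γ) ∧ ∀ γ ∈ Γ, ∃ τ ∈ T, ∃ y ∈ P0, y • τ = γ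
  st : ∀ (ω : Ω) (A : Subgroup G), IsPGroup p A → A ≤ stabilizer G ω → ∀ ω' ∉ Γ,
    ∃ g : G, g • ω' = ω ∧ ∀ a ∈ A, g⁻¹ * a * g ∈ (P : Subgroup G) ⊓ stabilizer G ω'

/-- `P0` fixes every point outside `Γ` -/
structure Two (p q : ℕ) (P : Sylow p G) (P0 : Subgroup G) (Γ : Set Ω) : Prop
    extends One p q P P0 Γ where
  fixF : ∀ ω ∉ Γ, ∀ y ∈ P0, y • ω = ω
  stabF : ∀ ω ∉ Γ, ∀ y ∈ (P : Subgroup G), y • ω = ω → y ∈ P0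

/-- double transitivity -/
def TT (G Ω : Type*) [Group G] [MulAction G Ω] : Prop :=
  ∀ a b c d : Ω, a ≠ b → c ≠ d → ∃ g : G, g • a = c ∧ g • b = d

/-- `P` is regular on `Γ` -/
def Reg (P : Subgroup G) (Γ : Set Ω) : Prop := ∀ γ ∈ Γ, ∀ y ∈ P, y • γ = γ → y = 1

/-- distinct `P0`-orbits in `Γ` have distinct kernels -/
def Dist (P0 : Subgroup G) (Γ : Set Ω) : Prop :=
  ∀ γ ∈ Γ, ∀ γ' ∈ Γ, (∀ y ∈ P0, y • γ = γ → y • γ' = γ') → ∃ w ∈ P0, w • γ = γ'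

/-- `Two`, doubly transitive, with Witt's lemma and trivial pointwise stabiliser of `Γ` -/
structure Thr (p q : ℕ) (P : Sylow p G) (P0 : Subgroup G) (Γ : Set Ω) : Prop
    extends Two p q P P0 Γ where
  tt : TT G Ω
  witt : ∀ a ∉ Γ, ∀ b ∉ Γ, ∀ c ∉ Γ, ∀ d ∉ Γ, a ≠ b → c ≠ d →
    ∃ n ∈ Subgroup.normalizer (P0 : Set G), n • a = c ∧ n • b = d
  ninv : ∀ n ∈ Subgroup.normalizer (P0 : Set G), ∀ ω : Ω, n • ω ∈ Γ ↔ ω ∈ Γ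
  lone : ∀ g : G, (∀ γ ∈ Γ, g • γ = γ) → g = 1

/-- the centraliser of the stabiliser of `γ` in `P0` -/
def CW (P0 : Subgroup G) (γ : Ω) : Subgroup G :=
  Subgroup.centralizer ((P0 ⊓ stabilizer G γ : Subgroup G) : Set G)

/-- the two-point stabiliser -/
def H2 (G : Type*) [Group G] [MulAction G Ω] (a b : Ω) : Subgroup G :=
  stabilizer G a ⊓ stabilizer G b

end Cfsg.Agent.El2
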