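import Cfsg.Agent.El2.IrrA0
import Cfsg.Agent.El2.Cyc

set_option autoImplicit false

namespace Cfsg.Agent.El2

open MulAction

variable {G Ω : Type*} [Group G] [Finite G] [MulAction G Ω] [Finite Ω] {p q : ℕ} [Fact p.Prime]
  {P : Sylow p G} {P0 : Subgroup G} {Γ : Set Ω}

theorem IrrA_per (g : ℕ → ℚ) (n : ℕ) (hg : ∀ i, g (i + n) = g i) (j : ℕ) :
    ∑ i ∈ Finset.range n, g (j + i) = ∑ i ∈ Finset.range n, g i := by
  induction j with
  | zero => simp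
  | succ j ih =>
    have h1 := Finset.sum_range_succ (fun i => g (j + i)) n
    have h2 := Finset.sum_range_succ' (fun i => g (j + i)) n
    simp only [hg, add_zero] at h1 h2
    rw [← ih, ← add_right_cancel (h2.symm.trans h1)]
    exact Finset.sum_congr rfl fun i _ => by rw [add_assoc, add_comm 1]

theorem Two.irrA [DecidableEq Ω] (h : Two p q P P0 Γ) (hr : Reg (P : Subgroup G) Γ)
    (S : Submodule ℚ (Ω → ℚ)) (hS : ∀ y ∈ (P : Subgroup G), ∀ f ∈ S, (fun ω => f (y • ω)) ∈ S)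
    (f : Ω → ℚ) (hf : f ∈ S) (y : G) (hy : y ∈ P0) (hne : (fun ω => f (y • ω)) ≠ f) :
    ∀ γ ∈ Γ, ∀ w ∈ P0, (Pi.single γ 1 - Pi.single (w • γ) 1 : Ω → ℚ) ∈ S := by
  obtain ⟨-, x, hx, o, eP, e0⟩ := h.reg_cyc hr
  have nat : ∀ {a b : G}, b ∈ Subgroup.zpowers a → ∃ i : ℕ, a ^ i = b := fun hb =>
    mem_powers_iff_mem_zpowers.2 hb
  have x1 : x ^ p ^ 2 = 1 := o ▸ pow_orderOf_eq_one x
  have z1 : (x ^ p) ^ p = 1 := by rw [← pow_mul, ← sq, x1]
  obtain ⟨j, rfl⟩ := nat (e0 ▸ hy)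
  have step : ∀ γ ∈ Γ, (Pi.single γ 1 - Pi.single (x ^ p • γ) 1 : Ω → ℚ) ∈ S := fun γ hγ => by
    have := cyc_irr (p := p) x γ 1 (by rw [x1, one_smul]) S (hS x hx)
      ((fun ω => f ((x ^ p) ^ j • ω)) - f) (S.sub_mem (hS _ (h.le hy) f hf) hf)
      (sub_ne_zero.2 hne) (fun ω hω => ?_) (fun i hi => ?_) fun ω => ?_
    · rwa [pow_one] at this
    · have k : ω ∈ Γ := by
        by_contra k
        exact hω (by simp [h.fixF ω k _ hy])
      obtain ⟨y', hy', rfl⟩ := h.tr γ hγ ω k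
      obtain ⟨i, rfl⟩ := nat (eP ▸ hy')
      exact ⟨i, rfl⟩
    · exact o ▸ orderOf_dvd_of_pow_eq_one (hr γ hγ _ (pow_mem hx i) hi)
    · simp only [Pi.sub_apply, Finset.sum_sub_distrib, pow_one, pow_mul, ← mul_smul, ← pow_add]
      exact sub_eq_zero.2 (IrrA_per (fun i => f ((x ^ p) ^ i • ω)) p
        (fun i => by simp only [pow_add, z1, mul_one]) j)
  intro γ hγ w hw
  obtain ⟨i, rfl⟩ := nat (e0 ▸ hw)
  clear hw
  induction i with
  | zero => simp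
  | succ i ih =>
    have := S.add_mem ih (step _ (h.inv _ (pow_mem (pow_mem hx p) i) γ hγ))
    rwa [sub_add_sub_cancel, ← mul_smul, ← pow_succ'] at this

end Cfsg.Agent.El2
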