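import Cfsg.Agent.El2.Defs

set_option autoImplicit false

namespace Cfsg.Agent.El2

open MulAction

variable {G Ω : Type*} [Group G] [Finite G] [MulAction G Ω] [Finite Ω] {p q : ℕ} [Fact p.Prime]
  {P : Sylow p G} {P0 : Subgroup G} {Γ : Set Ω}

set_option linter.unusedSectionVars false in
theorem Two.reg_cyc (h : Two p q P P0 Γ) (hr : Reg (P : Subgroup G) Γ) :
    Nat.card P0 = p ∧ ∃ x ∈ (P : Subgroup G), orderOf x = p ^ 2 ∧ (P : Subgroup G) = Subgroup.zpowers x ∧
      P0 = Subgroup.zpowers (x ^ p) := by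
  have hp := h.hp
  obtain ⟨γ, hγ⟩ := h.ne
  have h1 : (P : Subgroup G) ⊓ stabilizer G γ = ⊥ :=
    eq_bot_iff.2 fun y hy => hr γ hγ y hy.1 hy.2
  have c0 : Nat.card P0 = p := by rw [h.cardW γ hγ, h1, Subgroup.card_bot, mul_one]
  have cP : Nat.card P = p ^ 2 := by rw [h.idx, c0, sq]
  have fx : ∀ y ∈ (P : Subgroup G), (orderOf y).Prime → y ∈ P0 := fun y hy o => by
    obtain ⟨ω, e⟩ := h.elus y o
    by_cases k : ω ∈ Γ
    exacts [h.stabΓ ω k y hy e, h.stabF ω k y hy e]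
  obtain ⟨x, hx, nx⟩ : ∃ x ∈ (P : Subgroup G), x ∉ P0 := by
    by_contra! k
    have := Subgroup.card_le_of_le (show (P : Subgroup G) ≤ P0 from k)
    rw [c0, cP] at this
    have := hp.two_le
    nlinarith
  have o : orderOf x = p ^ 2 := by
    obtain ⟨i, hi, e⟩ := (Nat.dvd_prime_pow hp).1 (cP ▸ (P : Subgroup G).orderOf_dvd_natCard hx)
    interval_cases i
    · rw [pow_zero, orderOf_eq_one_iff] at e
      exact absurd (e ▸ one_mem P0) nx
    · exact absurd (fx x hx (by rw [e, pow_one]; exact hp)) nx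
    · exact e
  have o' : orderOf (x ^ p) = p := by
    rw [orderOf_pow_of_dvd hp.ne_zero (by rw [o]; exact dvd_pow_self p two_ne_zero), o, sq,
      Nat.mul_div_cancel _ hp.pos]
  refine ⟨c0, x, hx, o, (Subgroup.eq_of_le_of_card_ge (Subgroup.zpowers_le.2 hx) ?_).symm,
    (Subgroup.eq_of_le_of_card_ge (Subgroup.zpowers_le.2 (fx _ (pow_mem hx p) (by rw [o']; exact hp)))
      ?_).symm⟩
  · rw [Nat.card_zpowers, o, cP]
  · rw [Nat.card_zpowers, o', c0]

end Cfsg.Agent.El2
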