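import Cfsg.Agent.El2.Cyc

set_option autoImplicit false
set_option linter.unusedSectionVars false

namespace Cfsg.Agent.El2

open MulAction

variable {G Ω : Type*} [Group G] [Finite G] [MulAction G Ω] [Finite Ω] {p q : ℕ} [Fact p.Prime]
  {P : Sylow p G} {P0 : Subgroup G} {Γ : Set Ω}

/-- nonzero functions supported on `Γ` with zero sums over the orbits of `P0` -/
def IrrBGood (P0 : Subgroup G) (Γ : Set Ω) (S : Submodule ℚ (Ω → ℚ)) (u : Ω → ℚ) : Prop :=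
  u ∈ S ∧ u ≠ 0 ∧ (∀ ω ∉ Γ, u ω = 0) ∧ ∀ ω, ∑ᶠ w : P0, u ((w : G) • ω) = 0

theorem irrB_good (h : Two p q P P0 Γ) {S : Submodule ℚ (Ω → ℚ)}
    (hS : ∀ y ∈ (P : Subgroup G), ∀ f ∈ S, (fun ω => f (y • ω)) ∈ S) {f : Ω → ℚ} (hf : f ∈ S)
    {y : G} (hy : y ∈ P0) (hne : (fun ω => f (y • ω)) ≠ f) :
    IrrBGood P0 Γ S ((fun ω => f (y • ω)) - f) := by
  refine ⟨sub_mem (hS y (h.le hy) f hf) hf, sub_ne_zero.2 hne, fun ω hω => ?_, fun ω => ?_⟩
  · simp [h.fixF ω hω y hy]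
  · have := Fintype.ofFinite P0
    rw [finsum_eq_sum_of_fintype]
    simp only [Pi.sub_apply, Finset.sum_sub_distrib, sub_eq_zero]
    exact Fintype.sum_equiv (Equiv.mulLeft (⟨y, hy⟩ : P0)) _ _ fun w => by simp [mul_smul]

theorem irrB_ne (h : Two p q P P0 Γ) {S : Submodule ℚ (Ω → ℚ)} {u : Ω → ℚ}
    (hu : IrrBGood P0 Γ S u) {b : Ω} (hb : u b ≠ 0) {c : G} (hc : c ∈ P0) (hcb : c • b ≠ b) :
    (fun ω => u (c • ω)) ≠ u := fun e => by
  have bΓ : b ∈ Γ := by_contra fun n => hb (hu.2.2.1 b n)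
  have h1 : ∀ i : ℕ, u (c ^ i • b) = u b := fun i => by
    induction i with
    | zero => simp
    | succ i ih => rw [pow_succ', mul_smul, ← ih]; exact congrFun e _
  have h2 := hu.2.2.2 b
  have := Fintype.ofFinite P0
  rw [finsum_eq_sum_of_fintype, Finset.sum_congr rfl (g := fun _ => u b) fun w _ => by
    obtain ⟨i, hi⟩ := h.cyc b bΓ c hc hcb w w.2
    rw [hi, h1]] at h2
  simp [hb] at h2

theorem irrB_one (h : Two p q P P0 Γ) (hd : Dist P0 Γ) {S : Submodule ℚ (Ω → ℚ)}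
    (hS : ∀ y ∈ (P : Subgroup G), ∀ f ∈ S, (fun ω => f (y • ω)) ∈ S) (n : ℕ) :
    ∀ u, IrrBGood P0 Γ S u → {γ | ∃ w ∈ P0, u (w • γ) ≠ 0}.ncard = n →
      ∃ u b, IrrBGood P0 Γ S u ∧ u b ≠ 0 ∧ ∀ b', u b' ≠ 0 → ∃ w ∈ P0, w • b' = b := by
  induction n using Nat.strong_induction_on with
  | _ n ih =>
  intro u hu hn
  obtain ⟨b, hb⟩ := Function.ne_iff.1 hu.2.1
  by_cases k : ∀ b', u b' ≠ 0 → ∃ w ∈ P0, w • b' = b
  · exact ⟨u, b, hu, hb, k⟩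
  obtain ⟨b', k⟩ := not_forall.1 k
  obtain ⟨hb', k⟩ := Classical.not_imp.1 k
  have m : ∀ {a}, u a ≠ 0 → a ∈ Γ := fun ha => by_contra fun n => ha (hu.2.2.1 _ n)
  have k2 := mt (hd b' (m hb') b (m hb)) k
  push Not at k2
  obtain ⟨y, hy, e1, e2⟩ := k2
  refine ih _ (hn ▸ Set.ncard_lt_ncard ⟨?_, fun k3 => ?_⟩ (Set.toFinite _)) _
    (irrB_good h hS hu.1 hy (irrB_ne h hu hb hy e2)) rfl
  · rintro γ ⟨w, hw, e⟩
    by_cases z : u (w • γ) = 0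
    · exact ⟨y * w, mul_mem hy hw, by simpa [z, mul_smul] using e⟩
    · exact ⟨w, hw, z⟩
  · obtain ⟨w, hw, e⟩ := k3 (show b' ∈ _ from ⟨1, one_mem _, by simpa using hb'⟩)
    exact e (by simp [← mul_smul, h.comm y hy w hw]; simp [mul_smul, e1])

theorem Two.irrB [DecidableEq Ω] (h : Two p q P P0 Γ) (hd : Dist P0 Γ)
    (S : Submodule ℚ (Ω → ℚ)) (hS : ∀ y ∈ (P : Subgroup G), ∀ f ∈ S, (fun ω => f (y • ω)) ∈ S)
    (f : Ω → ℚ) (hf : f ∈ S) (y : G) (hy : y ∈ P0) (hne : (fun ω => f (y • ω)) ≠ f) :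
    ∀ γ ∈ Γ, ∀ w ∈ P0, (Pi.single γ 1 - Pi.single (w • γ) 1 : Ω → ℚ) ∈ S := by
  intro γ hγ w hw
  by_cases hm : w • γ = γ
  · rw [hm, sub_self]; exact zero_mem _
  obtain ⟨u, b, hu, hb, hs⟩ := irrB_one h hd hS _ _ (irrB_good h hS hf hy hne) rfl
  obtain ⟨x, hx, rfl⟩ := h.tr γ hγ b (by_contra fun n => hb (hu.2.2.1 b n))
  have s1 : ∀ ω, u (x • ω) ≠ 0 → ∃ v ∈ P0, ω = v • γ := fun ω e => by
    obtain ⟨v, hv, e1⟩ := hs _ e
    refine ⟨_, h.nrm _ (inv_mem hx) _ (inv_mem hv), ?_⟩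
    rw [inv_inv, mul_smul, ← e1]
    simp [mul_smul]
  have h1 := hS x hx u hu.1
  have := cyc_irr (p := p) w γ 0 (by simp [h.pow w hw]) S (hS w (h.le hw))
    ((fun ω => u (x • w • ω)) - fun ω => u (x • ω)) (sub_mem (hS w (h.le hw) _ h1) h1)
    (sub_ne_zero.2 fun e => irrB_ne h hu hb (h.nrm x hx w hw) (by simpa [mul_smul] using hm)
      (funext fun ω => by simpa [mul_smul] using congrFun e (x⁻¹ • ω)))
    (fun ω e => ?_) (fun i e => ?_) fun ω => ?_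
  · simpa using this
  · have : ∃ v ∈ P0, ω = v • γ := by
      by_cases z : u (x • ω) = 0
      · obtain ⟨v, hv, e1⟩ := s1 (w • ω) (by simpa [z] using e)
        exact ⟨w⁻¹ * v, mul_mem (inv_mem hw) hv, by rw [mul_smul, ← e1, inv_smul_smul]⟩
      · exact s1 ω z
    obtain ⟨v, hv, rfl⟩ := this
    exact h.cyc γ hγ w hw hm v hv
  · rw [zero_add, pow_one]
    by_contra nd
    have o : orderOf w = p := orderOf_eq_prime (h.pow w hw) (by rintro rfl; simp at hm)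
    obtain ⟨j, hj⟩ := exists_pow_eq_self_of_coprime (x := w) (n := i)
      (o ▸ ((Nat.Prime.coprime_iff_not_dvd Fact.out).2 nd).symm)
    have : w ^ i ∈ stabilizer G γ := e
    exact hm (hj ▸ (pow_mem this j : (w ^ i) ^ j ∈ stabilizer G γ))
  · have := Finset.sum_range_sub (fun i => u (x • w ^ i • ω)) p
    simp only [pow_succ', mul_smul, h.pow w hw, pow_zero, sub_self] at this
    simpa using this

end Cfsg.Agent.El2
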