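import Cfsg.Agent.El2.Defs

set_option autoImplicit false

namespace Cfsg.Agent.El2

open MulAction

variable {G Ω : Type*} [Group G] [Finite G] [MulAction G Ω] [Finite Ω] {p q : ℕ} [Fact p.Prime]
  {P : Sylow p G} {P0 : Subgroup G} {Γ : Set Ω}

omit [Finite G] in
theorem reps_of (E : Subgroup G) (S : Set Ω) (r m : ℕ) (hr : 0 < r) (hS : S.ncard = r * m)
    (hinv : ∀ y ∈ E, ∀ ω ∈ S, y • ω ∈ S) (ho : ∀ ω ∈ S, Nat.card (orbit E ω) = r) :
    ∃ T : Finset Ω, T.card ≤ m ∧ (∀ τ ∈ T, τ ∈ S) ∧ ∀ ω ∈ S, ∃ τ ∈ T, ∃ y ∈ E, y • τ = ω := by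
  classical
  let f : Ω → Ω := fun ω => (Quotient.mk (orbitRel E Ω) ω).out
  have hf : ∀ ω, f ω ∈ orbit E ω := fun ω => by
    have := Quotient.mk_out (s := orbitRel E Ω) ω
    exact this
  have hff : ∀ ω ω', f ω = f ω' ↔ ω ∈ orbit E ω' := fun ω ω' => by
    constructor
    · intro e
      have e' := Quotient.out_injective e
      exact Quotient.exact e'
    · intro e
      have e' : (Quotient.mk (orbitRel E Ω) ω) = Quotient.mk (orbitRel E Ω) ω' := Quotient.sound e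
      simp only [f, e']
  have hSf : S.Finite := S.toFinite
  have hfS : ∀ ω ∈ S, f ω ∈ S := fun ω hω => by
    obtain ⟨y, hy⟩ := hf ω
    rw [← hy]
    exact hinv y y.2 ω hω
  refine ⟨hSf.toFinset.image f, ?_, ?_, ?_⟩
  · have h1 : hSf.toFinset.card = ∑ τ ∈ hSf.toFinset.image f,
        (hSf.toFinset.filter (fun ω => f ω = τ)).card :=
      Finset.card_eq_sum_card_image f _
    have h2 : ∀ τ ∈ hSf.toFinset.image f, (hSf.toFinset.filter (fun ω => f ω = τ)).card = r := by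
      intro τ hτ
      obtain ⟨ω0, h0, rfl⟩ := Finset.mem_image.1 hτ
      rw [Set.Finite.mem_toFinset] at h0
      rw [← ho ω0 h0, Nat.card_coe_set_eq, ← Set.ncard_coe_finset]
      congr 1
      ext ω
      simp only [Finset.coe_filter, Set.Finite.mem_toFinset, Set.mem_ofPred_eq, hff]
      refine ⟨fun h => h.2, fun h => ⟨?_, h⟩⟩
      obtain ⟨y, hy⟩ := h
      rw [← hy]
      exact hinv y y.2 ω0 h0
    rw [Finset.sum_congr rfl h2, Finset.sum_const, smul_eq_mul, ← Set.ncard_eq_toFinset_card S hSf,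
      hS, mul_comm r] at h1
    exact (Nat.eq_of_mul_eq_mul_right hr h1).ge
  · intro τ hτ
    obtain ⟨ω0, h0, rfl⟩ := Finset.mem_image.1 hτ
    exact hfS ω0 ((Set.Finite.mem_toFinset _).1 h0)
  · intro ω hω
    refine ⟨f ω, Finset.mem_image_of_mem f ((Set.Finite.mem_toFinset _).2 hω), ?_⟩
    obtain ⟨y, hy⟩ := hf ω
    refine ⟨(y⁻¹ : E), (y⁻¹ : E).2, ?_⟩
    rw [← hy]
    exact inv_smul_smul y ω

end Cfsg.Agent.El2
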