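import Cfsg.Agent.El2.Cov
import Cfsg.Agent.El2.St
import Cfsg.Agent.El2.Rep

set_option autoImplicit false

namespace Cfsg.Agent.El2

open MulAction

variable {G Ω : Type*} [Group G] [Finite G] [MulAction G Ω] [Finite Ω] {p q : ℕ} [Fact p.Prime]
  {P : Sylow p G} {P0 : Subgroup G} {Γ : Set Ω}

omit [Finite G] [Finite Ω] in
theorem oneX_card (E : Subgroup G) (ω : Ω) :
    Nat.card (orbit E ω) * Nat.card ↥(E ⊓ stabilizer G ω) = Nat.card E := by
  have e : Nat.card ↥(E ⊓ stabilizer G ω) = Nat.card (stabilizer E ω) :=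
    Nat.card_congr ⟨fun x => ⟨⟨x.1, x.2.1⟩, x.2.2⟩, fun x => ⟨x.1.1, x.1.2, x.2⟩, fun _ => rfl,
      fun _ => rfl⟩
  rw [e, ← Nat.card_prod]
  exact Nat.card_congr (orbitProdStabilizerEquivGroup E ω)

theorem Pre.one (h : Pre p q P P0 Γ) : One p q P P0 Γ := by
  have hp := h.hp
  have p0 := hp.pos
  have cΓ := Set.ncard_add_ncard_compl Γ
  rw [h.cardΓ, h.card] at cΓ
  have p2q : p < 2 * q := by
    have a : p * p ≤ p * (2 * q) := by nlinarith
    refine lt_of_le_of_ne (Nat.le_of_mul_le_mul_left a p0) fun e => ?_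
    have := (Nat.prime_dvd_prime_iff_eq Nat.prime_two hp).1 ⟨q, e⟩
    have := h.q3
    omega
  have cF : Γᶜ.ncard = p * (2 * q - p) := by
    obtain ⟨a, ha⟩ := Nat.exists_eq_add_of_le p2q.le
    have e : 2 * p * q = p * (p + a) := by rw [← ha]; ring
    rw [ha, Nat.add_sub_cancel_left]
    rw [e] at cΓ
    nlinarith
  have pP : IsPGroup p (P : Subgroup G) := P.2
  have pP0 : IsPGroup p P0 := pP.to_le h.le
  have oΓ : ∀ γ ∈ Γ, Nat.card (orbit (P : Subgroup G) γ) = p ^ 2 := fun γ hγ => by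
    rw [← h.cardΓ, ← Nat.card_coe_set_eq]
    congr 2
    ext ω
    exact ⟨fun ⟨y, e⟩ => e ▸ h.inv y y.2 γ hγ, fun hω => by
      obtain ⟨y, hy, e⟩ := h.tr γ hγ ω hω
      exact ⟨⟨y, hy⟩, e⟩⟩
  have cW : ∀ γ ∈ Γ, Nat.card P0 = p * Nat.card ↥((P : Subgroup G) ⊓ stabilizer G γ) :=
    fun γ hγ => by
      have := oneX_card (P : Subgroup G) γ
      rw [oΓ γ hγ] at this
      refine Nat.eq_of_mul_eq_mul_left p0 ?_
      rw [← h.idx, ← mul_assoc, ← sq]
      exact this.symm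
  have oB : ∀ γ ∈ Γ, Nat.card (orbit P0 γ) = p := fun γ hγ => by
    have e : P0 ⊓ stabilizer G γ = (P : Subgroup G) ⊓ stabilizer G γ :=
      le_antisymm (inf_le_inf_right _ h.le) fun y hy => ⟨h.stabΓ γ hγ y hy.1 hy.2, hy.2⟩
    have := oneX_card P0 γ
    rw [e, cW γ hγ] at this
    exact Nat.eq_of_mul_eq_mul_right Nat.card_pos this
  have oL : ∀ ω : Ω, Nat.card (orbit P0 ω) ≤ p := fun ω => by
    by_cases hω : ω ∈ Γ
    · exact (oB ω hω).le
    · rw [← h.orbF ω hω]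
      exact Nat.card_mono (Set.toFinite _) fun x ⟨y, e⟩ => ⟨⟨y, h.le y.2⟩, e⟩
  have sP := fun ω (hω : ω ∉ Γ) => small_pt hp pP ω (h.orbF ω hω).le
  have s0 := fun ω : Ω => small_pt hp pP0 ω (oL ω)
  refine { h with
    p2q := p2q, cardF := cF, cardW := cW, orbB := oB, orbLe := oL
    cardQ := fun ω hω => ?_
    nrmQ := fun ω hω => (sP ω hω).1
    comQ := fun ω hω => (sP ω hω).2.1
    powQ := fun ω hω => (sP ω hω).2.2.1
    comm := fun a ha b hb => ?_
    pow := fun a ha => h.faith _ fun ω => (s0 ω).2.2.1 a ha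
    gen := fun x hx x0 y hy => ?_
    cyc := fun γ _ => (s0 γ).2.2.2
    reps := ?_
    blks := reps_of P0 Γ p p p0 (by rw [h.cardΓ, sq]) (fun y hy => h.inv y (h.le hy)) oB
    st := fun ω A hA hle ω' hω' => h.toEl.st P ω A hA hle ω' (h.orbF ω' hω') }
  · have := oneX_card (P : Subgroup G) ω
    rw [h.orbF ω hω] at this
    exact this.symm
  · refine inv_mul_eq_one.1 (h.faith _ fun ω => ?_)
    rw [mul_smul, inv_smul_eq_iff, mul_smul, mul_smul, (s0 ω).2.1 a ha b hb]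
  · have hN : (P0.subgroupOf (P : Subgroup G)).Normal :=
      ⟨fun w hw g => h.nrm g g.2 w hw⟩
    have hc : Nat.card ((P : Subgroup G) ⧸ P0.subgroupOf (P : Subgroup G)) = p := by
      have := Subgroup.card_eq_card_quotient_mul_card_subgroup (P0.subgroupOf (P : Subgroup G))
      rw [Nat.card_congr (Subgroup.subgroupOfEquivOfLe h.le).toEquiv] at this
      exact Nat.eq_of_mul_eq_mul_right Nat.card_pos (this.symm.trans h.idx)
    have x1 : ((⟨x, hx⟩ : (P : Subgroup G)) : (P : Subgroup G) ⧸ P0.subgroupOf P) ≠ 1 :=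
      fun e => x0 (Subgroup.mem_subgroupOf.1
        ((QuotientGroup.eq_one_iff (N := P0.subgroupOf (P : Subgroup G)) _).1 e))
    obtain ⟨i, hi⟩ := mem_powers_of_prime_card hc x1
      (g' := ((⟨y, hy⟩ : (P : Subgroup G)) : (P : Subgroup G) ⧸ P0.subgroupOf P))
    simp only [← QuotientGroup.mk_pow] at hi
    exact ⟨i, (x ^ i)⁻¹ * y, Subgroup.mem_subgroupOf.1
      ((QuotientGroup.eq (s := P0.subgroupOf (P : Subgroup G))).1 hi), by group⟩
  · have i1 : ∀ y ∈ (P : Subgroup G), ∀ ω ∈ Γᶜ, y • ω ∈ Γᶜ := fun y hy ω hω e =>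
      hω (by simpa using h.inv y⁻¹ (inv_mem hy) _ e)
    obtain ⟨T, t1, t2, t3⟩ := reps_of (P : Subgroup G) Γᶜ p (2 * q - p) p0 cF i1
      (fun ω hω => h.orbF ω hω)
    exact ⟨T, t1, fun τ hτ => t2 τ hτ, fun ω hω => t3 ω hω⟩

end Cfsg.Agent.El2
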