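import Cfsg.Agent.El2.St

set_option autoImplicit false

namespace Cfsg.Agent.El2

open MulAction

variable {G Ω : Type*} [Group G] [Finite G] [MulAction G Ω] [Finite Ω] {p q : ℕ} [Fact p.Prime]
  {P : Sylow p G} {P0 : Subgroup G} {Γ : Set Ω}

theorem PreX_sub {X : Type*} [Group X] [Finite X] (hX : IsPGroup p X) (K : Subgroup X)
    (hK : K.index = p ^ 2) : ∃ L : Subgroup X, K ≤ L ∧ L.Normal ∧ Nat.card X = p * Nat.card L := by
  have hp : p.Prime := Fact.out
  obtain ⟨k, hk⟩ := IsPGroup.iff_card.1 (hX.to_subgroup K)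
  have e : Nat.card X = p * p ^ (k + 1) := by
    rw [← K.card_mul_index, hk, hK]; ring
  obtain ⟨L, hL, le⟩ := Sylow.exists_subgroup_card_pow_prime_le p (n := k) (m := k + 1)
    (e ▸ Dvd.intro_left p rfl) K hk (Nat.le_succ k)
  have i : L.index = p := by
    have := L.card_mul_index
    rw [hL, e, mul_comm p] at this
    exact Nat.eq_of_mul_eq_mul_left (pow_pos hp.pos _) this
  refine ⟨L, le, Subgroup.normal_of_index_eq_minFac_card ?_, by rw [hL, e]⟩
  rw [i, e, ← pow_succ', hp.pow_minFac (Nat.succ_ne_zero _)]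

theorem El.exists_pre (h : El G Ω p q) (P : Sylow p G) (γ0 : Ω)
    (hγ : Nat.card (orbit (P : Subgroup G) γ0) = p ^ 2) : ∃ (P0 : Subgroup G) (Γ : Set Ω), Pre p q P P0 Γ := by
  obtain ⟨L, le, hL, c⟩ := PreX_sub P.2 (stabilizer (P : Subgroup G) γ0)
    (by rw [index_stabilizer, ← Nat.card_coe_set_eq]; exact hγ)
  refine ⟨L.map (P : Subgroup G).subtype, orbit (P : Subgroup G) γ0, h, Subgroup.map_subtype_le _, ?_, ?_,
    ⟨γ0, mem_orbit_self γ0⟩, by rw [← Nat.card_coe_set_eq]; exact hγ, ?_, ?_, ?_, fun ω hω => ?_⟩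
  · rw [Subgroup.card_map_of_injective (Subgroup.subtype_injective _)]; exact c
  · rintro y hy _ ⟨w, hw, rfl⟩
    exact ⟨_, hL.conj_mem w hw ⟨y, hy⟩, rfl⟩
  · rintro y hy _ ⟨a, rfl⟩
    exact ⟨⟨y, hy⟩ * a, mul_smul _ _ _⟩
  · rintro _ ⟨a, rfl⟩ _ ⟨b, rfl⟩
    refine ⟨(b * a⁻¹ : (P : Subgroup G)), (b * a⁻¹).2, ?_⟩
    change (b * a⁻¹) • a • γ0 = b • γ0
    rw [mul_smul, inv_smul_smul]
  · rintro _ ⟨a, rfl⟩ y hy e
    have e' : (⟨y, hy⟩ : (P : Subgroup G)) • a • γ0 = a • γ0 := e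
    have m : a⁻¹ * ⟨y, hy⟩ * a ∈ stabilizer (P : Subgroup G) γ0 := by
      rw [mem_stabilizer_iff, mul_smul, mul_smul, e', inv_smul_smul]
    have := hL.conj_mem _ (le m) a
    exact ⟨_, this, by simp [mul_assoc]⟩
  · refine (h.orb P ω).resolve_right fun h2 => ?_
    have dj : Disjoint (orbit (P : Subgroup G) γ0) (orbit (P : Subgroup G) ω) := by
      rw [Set.disjoint_left]
      intro x hx hx'
      refine hω ?_
      rw [← orbit_eq_iff.2 hx, orbit_eq_iff.2 hx']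
      exact mem_orbit_self ω
    have c1 := Set.ncard_union_eq dj
    have c2 := Set.ncard_le_card (orbit (P : Subgroup G) γ0 ∪ orbit (P : Subgroup G) ω)
    rw [c1, ← Nat.card_coe_set_eq, ← Nat.card_coe_set_eq, hγ, h2, h.card] at c2
    have := h.qp
    have := h.hp.pos
    nlinarith

end Cfsg.Agent.El2
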