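import Cfsg.Agent.El2.Wit

set_option autoImplicit false

namespace Cfsg.Agent.El2

open MulAction

variable {G Ω : Type*} [Group G] [Finite G] [MulAction G Ω] [Finite Ω] {p q : ℕ} [Fact p.Prime]
  {P : Sylow p G} {P0 : Subgroup G} {Γ : Set Ω}

omit [Finite G] [Finite Ω] in
theorem TTx_diff [DecidableEq Ω] {P0 : Subgroup G} (S : Submodule ℚ (Ω → ℚ))
    (hS : ∀ g : G, ∀ f ∈ S, (fun ω => f (g • ω)) ∈ S)
    (hX : ∀ ω ω' : Ω, ∃ x ∈ Subgroup.normalClosure (P0 : Set G), x • ω = ω')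
    (h0 : ∀ w ∈ P0, ∀ ω : Ω, (Pi.single ω 1 - Pi.single (w • ω) 1 : Ω → ℚ) ∈ S) (ω ω' : Ω) :
    (Pi.single ω 1 - Pi.single ω' 1 : Ω → ℚ) ∈ S := by
  let K : Subgroup G :=
    { carrier := {x | ∀ ω : Ω, (Pi.single ω 1 - Pi.single (x • ω) 1 : Ω → ℚ) ∈ S}
      one_mem' := fun ω => by simp
      mul_mem' := fun {x y} hx hy ω => by
        have := S.add_mem (hy ω) (hx (y • ω))
        rwa [sub_add_sub_cancel, ← mul_smul] at this
      inv_mem' := fun {x} hx ω => by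
        have := S.neg_mem (hx (x⁻¹ • ω))
        rwa [neg_sub, smul_inv_smul] at this }
  have : K.Normal := ⟨fun x hx g ω => by
    have := hS g⁻¹ _ (hx (g⁻¹ • ω))
    convert this using 1
    funext z
    simp only [Pi.sub_apply, Pi.single_apply, mul_smul, smul_left_cancel_iff, inv_smul_eq_iff]⟩
  obtain ⟨x, hx, rfl⟩ := hX ω ω'
  exact Subgroup.normalClosure_le_normal (N := K) (fun w hw => h0 w hw) hx ω

omit [Finite G] [Finite Ω] in
theorem TTx_move {P0 : Subgroup G} (S : Submodule ℚ (Ω → ℚ))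
    (hS : ∀ g : G, ∀ f ∈ S, (fun ω => f (g • ω)) ∈ S)
    (hX : ∀ ω ω' : Ω, ∃ x ∈ Subgroup.normalClosure (P0 : Set G), x • ω = ω')
    {v : Ω → ℚ} (hv : v ∈ S) {ω ω' : Ω} (ne : v ω' ≠ v ω) :
    ∃ f ∈ S, ∃ y ∈ P0, (fun ω => f (y • ω)) ≠ f := by
  by_contra! hc
  let K : Subgroup G :=
    { carrier := {x | ∀ f ∈ S, ∀ ω : Ω, f (x • ω) = f ω}
      one_mem' := fun f _ ω => by simp
      mul_mem' := fun {x y} hx hy f hf ω => by rw [mul_smul, hx f hf, hy f hf]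
      inv_mem' := fun {x} hx f hf ω => by rw [← hx f hf, smul_inv_smul] }
  have : K.Normal := ⟨fun x hx g f hf ω => by
    have := hx _ (hS g f hf) (g⁻¹ • ω)
    simpa only [mul_smul, smul_inv_smul] using this⟩
  obtain ⟨x, hx, rfl⟩ := hX ω ω'
  exact ne (Subgroup.normalClosure_le_normal (N := K)
    (fun w hw f hf ω => congrFun (hc f hf w hw) ω) hx v hv ω)

theorem Two.tt_of [DecidableEq Ω] (h : Two p q P P0 Γ)
    (hX : ∀ ω ω' : Ω, ∃ x ∈ Subgroup.normalClosure (P0 : Set G), x • ω = ω')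
    (hirr : ∀ (S : Submodule ℚ (Ω → ℚ)), (∀ y ∈ (P : Subgroup G), ∀ f ∈ S, (fun ω => f (y • ω)) ∈ S) →
      ∀ f ∈ S, ∀ y ∈ P0, (fun ω => f (y • ω)) ≠ f →
      ∀ γ ∈ Γ, ∀ w ∈ P0, (Pi.single γ 1 - Pi.single (w • γ) 1 : Ω → ℚ) ∈ S) : TT G Ω := by
  classical
  have := Fintype.ofFinite Ω
  have tr := h.trans
  intro a b c d hab hcd
  suffices key : ∀ e, e ≠ a → ∃ g : G, g • a = a ∧ g • b = e by
    obtain ⟨k, rfl⟩ := exists_smul_eq G a c
    obtain ⟨g, g1, g2⟩ := key (k⁻¹ • d) fun e => hcd (by rw [← e, smul_inv_smul])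
    exact ⟨k * g, by rw [mul_smul, g1], by rw [mul_smul, g2, smul_inv_smul]⟩
  let r : Ω → Ω → Prop := fun x y => ∃ g : G, g • a = x ∧ g • b = y
  have rg : ∀ (g : G) x y, r (g • x) (g • y) ↔ r x y := fun g x y =>
    ⟨fun ⟨k, k1, k2⟩ => ⟨g⁻¹ * k, by rw [mul_smul, k1, inv_smul_smul], by rw [mul_smul, k2, inv_smul_smul]⟩,
      fun ⟨k, k1, k2⟩ => ⟨g * k, by rw [mul_smul, k1], by rw [mul_smul, k2]⟩⟩
  let A : (Ω → ℚ) → Ω → ℚ := fun f x => ∑ y, (if r x y then 1 else 0) * f y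
  have Ag : ∀ (g : G) f x, A (fun ω => f (g • ω)) x = A f (g • x) := fun g f x =>
    Fintype.sum_equiv (MulAction.toPerm g) _ _ fun y => by simp only [toPerm_apply, rg]
  let v : Ω → ℚ := fun x => if x ∈ Γ then 1 else 0
  have Av : ∀ n ∈ Subgroup.normalizer (P0 : Set G), ∀ x, A v (n • x) = A v x := fun n hn x => by
    rw [← Ag]
    congr 1
    funext ω
    simp only [v, h.ninv n hn]
  have PN : ∀ y ∈ (P : Subgroup G), y ∈ Subgroup.normalizer (P0 : Set G) := fun y hy =>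
    Subgroup.mem_normalizer_fintype fun w hw => h.nrm y hy w hw
  obtain ⟨γ, hγ⟩ := h.ne
  obtain ⟨φ, hφ⟩ : Γᶜ.Nonempty := Set.nonempty_of_ncard_ne_zero (by
    rw [h.cardF]
    exact Nat.mul_ne_zero h.hp.ne_zero (by have := h.p2q; omega))
  let t := A v γ - A v φ
  let S : Submodule ℚ (Ω → ℚ) :=
    { carrier := {f | ∃ c : ℚ, ∀ x, A f x - t * f x = c}
      zero_mem' := ⟨0, fun x => by simp [A]⟩
      add_mem' := fun {f f'} ⟨c, hc⟩ ⟨c', hc'⟩ => ⟨c + c', fun x => by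
        rw [← hc x, ← hc' x]
        simp only [A, Pi.add_apply, mul_add, Finset.sum_add_distrib]
        ring⟩
      smul_mem' := fun s f ⟨c, hc⟩ => ⟨s * c, fun x => by
        rw [← hc x]
        simp only [A, Pi.smul_apply, smul_eq_mul, mul_sub, Finset.mul_sum, mul_left_comm s]⟩ }
  have hS : ∀ g : G, ∀ f ∈ S, (fun ω => f (g • ω)) ∈ S := fun g f ⟨c, hc⟩ =>
    ⟨c, fun x => by rw [Ag]; exact hc _⟩
  have hv : v ∈ S := ⟨A v φ, fun x => by
    by_cases hx : x ∈ Γ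
    · obtain ⟨y, hy, rfl⟩ := h.tr γ hγ x hx
      rw [Av y (PN y hy)]
      simp only [v, if_pos hx, t]
      ring
    · obtain ⟨n, hn, rfl⟩ := h.witt1 φ hφ x hx
      rw [Av n hn]
      simp only [v, if_neg hx, mul_zero, sub_zero]⟩
  obtain ⟨f, hf, y, hy, ne⟩ := TTx_move S hS hX hv (ω := γ) (ω' := φ) (by
    simp only [v, if_pos hγ, if_neg hφ]; exact zero_ne_one)
  have h1 := hirr S (fun y _ => hS y) f hf y hy ne
  intro e he
  obtain ⟨c, hc⟩ := TTx_diff S hS hX (fun w hw ω => by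
    by_cases k : ω ∈ Γ
    · exact h1 ω k w hw
    · rw [h.fixF ω k w hw, sub_self]; exact S.zero_mem) b e
  have ev : ∀ x, x ≠ b → x ≠ e → (if r x b then 1 else 0) - (if r x e then 1 else 0) = c := fun x k k' => by
    rw [← hc x]
    simp only [A, Pi.sub_apply, mul_sub, Finset.sum_sub_distrib, Pi.single_apply, if_neg k, if_neg k',
      mul_ite, mul_one, mul_zero, Finset.sum_ite_eq', Finset.mem_univ, if_true, sub_zero]
  by_contra hn
  have c1 := ev a hab he.symm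
  rw [if_pos ⟨1, one_smul _ _, one_smul _ _⟩, if_neg hn, sub_zero] at c1
  have ev' : ∀ x, x ≠ b → x ≠ e → r x b ∧ ¬ r x e := fun x k k' => by
    have := ev x k k'
    rw [← c1] at this
    split_ifs at this with k1 k2 k2 <;> first | exact ⟨k1, k2⟩ | norm_num at this
  obtain ⟨g, rfl⟩ := exists_smul_eq G b e
  have sub : (Finset.univ : Finset Ω) ⊆ {b, g • b, g⁻¹ • b} := fun x _ => by
    by_contra k
    simp only [Finset.mem_insert, Finset.mem_singleton, not_or] at k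
    exact (ev' (g • x) (fun e => k.2.2 (by rw [← e, inv_smul_smul]))
      (fun e => k.1 (smul_left_cancel g e))).2 ((rg g x b).2 (ev' x k.1 k.2.1).1)
  have c2 := (Finset.card_le_card sub).trans Finset.card_le_three
  rw [Finset.card_univ, ← Nat.card_eq_fintype_card, h.card] at c2
  have := h.q3
  have := h.qp
  nlinarith

end Cfsg.Agent.El2
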